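import Groth.Agent.FunFldLib.Tate.Weil
import Groth.Agent.FunFldLib.Ext

/-! Tools for comparing differentials in an extension of function fields. -/

set_option autoImplicit false

open WithZero
open LocRes (IsExpansionAt)

namespace Groth.Agent.FunFldLib.Tate

open Module FunFld Groth.Agent.FunFldLib

variable {k K : Type*} [Field k] [Field K] [Algebra k K]

theorem finite_coeff (hK : IsFF0 k K) {F : Type*} [Field F] [Algebra k F] {P : Place k K}
    {φ : K →ₐ[k] LaurentSeries F} (hφ : IsExpansionAt P.1 φ) : FiniteDimensional k F := by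
  classical
  have := finite_residue hK P
  let b := Module.finBasis k (IsLocalRing.ResidueField P.O)
  choose o ho using fun i => IsLocalRing.residue_surjective (R := P.O) (b i)
  refine Module.finite_def.2 ⟨Finset.univ.image fun i => (φ (o i : K)).coeff 0, eq_top_iff.2 fun a _ => ?_⟩
  obtain ⟨f, hf, rfl⟩ := hφ.2.1 a
  set c := fun i => b.repr (IsLocalRing.residue P.O ⟨f, hf⟩) i
  have hlt : P.1 (f - ∑ i, c i • (o i : K)) < 1 := by
    have h : IsLocalRing.residue P.O (⟨f, hf⟩ - ∑ i, algebraMap k P.O (c i) * o i) = 0 := by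
      rw [map_sub, map_sum]
      conv_lhs => rw [← b.sum_repr (IsLocalRing.residue P.O ⟨f, hf⟩)]
      rw [sub_eq_zero]
      exact Finset.sum_congr rfl fun i _ => by rw [map_mul, ho]; exact Algebra.smul_def _ _
    rw [residue_eq_zero] at h
    refine lt_of_eq_of_lt (congrArg P.1 ?_) h
    simp [Algebra.smul_def]
    rfl
  have h0 : (φ (f - ∑ i, c i • (o i : K))).coeff 0 = 0 :=
    coeff_low (j := -1) (by rw [hφ.1]; exact (lt_one_iff_le _).1 hlt) 0 (by norm_num)
  have e : (φ f).coeff 0 = ∑ i, c i • (φ (o i : K)).coeff 0 := by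
    rw [map_sub, map_sum, HahnSeries.coeff_sub, HahnSeries.coeff_sum, sub_eq_zero] at h0
    rw [h0]
    refine Finset.sum_congr rfl fun i _ => ?_
    rw [show φ (c i • (o i : K)) = c i • φ (o i : K) from (phiL φ).map_smul _ _, HahnSeries.coeff_smul]
  rw [e]
  exact sum_mem fun i _ => Submodule.smul_mem _ _ (Submodule.subset_span (by simp))

theorem D_ne_zero_of_vDiff {F : Type*} [Field F] [Algebra k F] {φ : K →ₐ[k] LaurentSeries F} {u x : K}
    (h : LocRes.vDiff φ u x ≠ 0) : KaehlerDifferential.D k K x ≠ 0 := fun h0 => by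
  let _ := φ.toRingHom.toAlgebra
  have := LocRes.isScalarTower_exp φ
  have h1 := congrArg (LocRes.dExp φ).liftKaehlerDifferential h0
  rw [map_zero, Derivation.liftKaehlerDifferential_comp_D] at h1
  exact h (by rw [LocRes.vDiff, show LocRes.D F (φ x) = 0 from h1, mul_zero, map_zero])

variable {k' K' : Type*} [Field k'] [Field K'] [Algebra k k'] [Algebra k' K'] [Algebra k K'] [IsScalarTower k k' K']
  [FiniteDimensional k k'] [Algebra K K']

/-- places over the larger constant field are places over the smaller one -/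
noncomputable def placeEquiv : Place k' K' ≃ Place k K' where
  toFun Q := ⟨Q.1, fun c => by rw [IsScalarTower.algebraMap_apply k k' K']; exact Q.2.1 _, Q.2.2⟩
  invFun Q := ⟨Q.1, fun c => by
    rcases eq_or_ne c 0 with rfl | hc
    · simp
    exact le_of_eq (v_eq_one_of_algebraic Q ((map_ne_zero _).2 hc) ((Algebra.IsAlgebraic.isAlgebraic c).algebraMap)), Q.2.2⟩
  left_inv Q := rfl
  right_inv Q := rfl

omit [FiniteDimensional k k'] in
theorem finrank_tower_aux {M M' : Type*} [CommRing M] [CommRing M'] [Algebra k M] [Algebra k' M'] (g : M ≃+* M')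
    (h : ∀ c, g (algebraMap k M c) = algebraMap k' M' (algebraMap k k' c)) :
    Module.finrank k M = Module.finrank k k' * Module.finrank k' M' := by
  let _ : Algebra k M' := ((algebraMap k' M').comp (algebraMap k k')).toAlgebra
  have : IsScalarTower k k' M' := IsScalarTower.of_algebraMap_eq fun _ => rfl
  rw [Module.finrank_mul_finrank k k' M']
  exact (AlgEquiv.ofRingEquiv (R := k) (A₁ := M) (A₂ := M') (f := g) h).toLinearEquiv.finrank_eq

theorem deg_placeEquiv (Q : Place k' K') : (placeEquiv (k := k) Q).deg = Module.finrank k k' * Q.deg :=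
  finrank_tower_aux (M := IsLocalRing.ResidueField (placeEquiv (k := k) Q).O) (M' := IsLocalRing.ResidueField Q.O)
    (RingEquiv.refl _) fun c => congrArg (IsLocalRing.residue Q.O) (Subtype.ext (IsScalarTower.algebraMap_apply k k' K' c))

theorem deg_comap (X : Divisor k K') :
    (X.deg : ℤ) =
      Module.finrank k k' * Divisor.deg (X.equivMapDomain (placeEquiv (k := k) (k' := k')).symm : Divisor k' K') := by
  rw [Divisor.deg, Divisor.deg, Finsupp.sum_equivMapDomain, Finsupp.mul_sum]
  refine Finset.sum_congr rfl fun Q _ => ?_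
  conv_lhs => rw [← (placeEquiv (k := k) (k' := k')).apply_symm_apply Q]
  dsimp only
  rw [deg_placeEquiv, (placeEquiv (k := k) (k' := k')).apply_symm_apply]
  push_cast; ring

theorem sep_ext [IsScalarTower k K K'] [Algebra.IsSeparable K K'] (h : Sep k K) : Sep k' K' := by
  obtain ⟨s, hs⟩ := h
  refine ⟨algebraMap K K' s, ?_⟩
  have h1 : Algebra.IsSeparable (IntermediateField.adjoin k ({s} : Set K)) K' := Algebra.IsSeparable.trans _ K _
  let E' := IntermediateField.adjoin k' ({algebraMap K K' s} : Set K')
  have hmem : ∀ a : IntermediateField.adjoin k ({s} : Set K), algebraMap K K' (a : K) ∈ E' := fun a =>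
    (IntermediateField.adjoin_simple_le_iff (K := (E'.restrictScalars k).comap (IsScalarTower.toAlgHom k K K'))).2
      (IntermediateField.mem_adjoin_simple_self k' _) a.2
  let f : IntermediateField.adjoin k ({s} : Set K) →+* E' :=
    ((algebraMap K K').comp (algebraMap _ K)).codRestrict E' hmem
  let _ := f.toAlgebra
  have : IsScalarTower (IntermediateField.adjoin k ({s} : Set K)) E' K' := IsScalarTower.of_algebraMap_eq fun _ => rfl
  exact Algebra.isSeparable_tower_top_of_isSeparable (IntermediateField.adjoin k ({s} : Set K)) E' K'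

end Groth.Agent.FunFldLib.Tate
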