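import Groth.Agent.FunFldLib.Tate.Pullback
import Groth.Agent.FunFldLib.Tate.Hurwitz
import Mathlib.RingTheory.Trace.Basic
import Mathlib.RingTheory.Valuation.LocalSubring

/-! The trace formula for residues. -/

set_option autoImplicit false

open WithZero
open LocRes (IsExpansionAt)

namespace Groth.Agent.FunFldLib.Tate

open Module FunFld Groth.Agent.FunFldLib

variable {k K K' : Type*} [Field k] [Field K] [Field K'] [Algebra k K] [Algebra K K'] [Algebra k K']
  [IsScalarTower k K K'] [FiniteDimensional K K']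

/-- traces of elements integral over a place are integral -/
theorem trace_int (hK : IsFF0 k K) (P : Place k K) {z : K'} (hz : ∀ Q : Place k K', IsOver Q P → Q.1 z ≤ 1) :
    P.1 (Algebra.trace K K' z) ≤ 1 := by
  let _ : Algebra P.O K' := ((algebraMap K K').comp (algebraMap P.O K)).toAlgebra
  have : IsScalarTower P.O K K' := IsScalarTower.of_algebraMap_eq fun _ => rfl
  set s : Set K' := Set.range fun o : P.O => algebraMap K K' (o : K)
  have hw : z ∈ (integralClosure (Subring.closure s) K').toSubring := by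
    rw [← iInf_valuationSubring_superset, Subring.mem_iInf]
    rintro ⟨V, hV⟩
    have hk : ∀ c : k, algebraMap k K' c ∈ V := fun c => hV ⟨algebraMap k P.O c, (IsScalarTower.algebraMap_apply k K K' c).symm⟩
    by_cases htop : ∃ y : K', y ≠ 0 ∧ V.valuation y < 1
    · obtain ⟨Q, hQ⟩ := exists_place (ff0_ext (K' := K') hK) V hk htop
      obtain ⟨R, e, he, hov⟩ := exists_over hK Q
      have : P = R := ext_of_le (P := P) (Q := R) fun y hy => (over_le_iff hov y).1 ((hQ _).2 (hV ⟨⟨y, hy⟩, rfl⟩))
      exact (hQ z).1 (hz Q ⟨e, this ▸ hov⟩)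
    · push Not at htop
      rcases eq_or_ne z 0 with rfl | hz0
      · exact zero_mem _
      · rcases V.mem_or_inv_mem z with h | h
        · exact h
        · have h3 : V.valuation z⁻¹ = 1 := le_antisymm ((V.valuation_le_one_iff _).2 h) (htop _ (inv_ne_zero hz0))
          rw [map_inv₀, inv_eq_one] at h3
          exact (V.valuation_le_one_iff _).1 h3.le
  have hint : IsIntegral P.O z := by
    obtain ⟨p, hp, hp0⟩ := hw
    let S : Subring K' := (algebraMap P.O K').range
    have hle : Subring.closure s ≤ S := Subring.closure_le.2 fun y hy => by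
      obtain ⟨o, rfl⟩ := hy
      exact ⟨o, rfl⟩
    let f : P.O ≃+* S := RingEquiv.ofBijective (algebraMap P.O K').rangeRestrict
      ⟨fun a b h => Subtype.ext ((algebraMap K K').injective (congrArg Subtype.val h)), (algebraMap P.O K').rangeRestrict_surjective⟩
    refine ⟨(p.map (Subring.inclusion hle)).map f.symm.toRingHom, (hp.map _).map _, ?_⟩
    rw [Polynomial.eval₂_map, Polynomial.eval₂_map,
      show ((algebraMap P.O K').comp f.symm.toRingHom).comp (Subring.inclusion hle) = algebraMap (Subring.closure s) K' from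
        RingHom.ext fun a => congrArg Subtype.val (f.apply_symm_apply (Subring.inclusion hle a))]
    exact hp0
  obtain ⟨o, ho⟩ := IsIntegrallyClosed.isIntegral_iff.1 (Algebra.isIntegral_trace (L := K) (F := K') hint)
  exact ho ▸ o.2

variable [Algebra.IsSeparable K K'] {F : Type*} [Field F] [Algebra k F] [FiniteDimensional k F]
  {F' : Place k K' → Type*} [∀ Q, Field (F' Q)] [∀ Q, Algebra k (F' Q)] [∀ Q, FiniteDimensional k (F' Q)]

theorem trace_formula (hK : IsFF0 k K) {P : Place k K} {φ : K →ₐ[k] LaurentSeries F} (hφ : IsExpansionAt P.1 φ)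
    {Qs : Finset (Place k K')} (hQs : ∀ Q, Q ∈ Qs ↔ IsOver Q P) {ψ : ∀ Q, K' →ₐ[k] LaurentSeries (F' Q)}
    (hψ : ∀ Q ∈ Qs, IsExpansionAt Q.1 (ψ Q)) (y : K') (x : K) :
    LocRes.locRes φ (Algebra.trace K K' y) x = ∑ Q ∈ Qs, LocRes.locRes (ψ Q) y (algebraMap K K' x) := by
  classical
  set x' := algebraMap K K' x
  obtain ⟨t, ht⟩ := hφ.2.2
  have ht0 : t ≠ 0 := fun h => by rw [h, map_zero] at ht; exact exp_ne_zero ht.symm
  have hsmall : ∀ (Q : Place k K'), Q ∈ Qs → ∀ z : K', ∃ N : ℕ, ∀ M, N ≤ M → Q.1 (algebraMap K K' t ^ M * z) ≤ 1 := by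
    intro Q hQ z
    obtain ⟨e, he⟩ := (hQs Q).1 hQ
    have hep := over_pos he
    rcases eq_or_ne z 0 with rfl | hz
    · exact ⟨0, fun M _ => by rw [mul_zero, map_zero]; exact zero_le'⟩
    refine ⟨(-Q.ord z).toNat, fun M hM => ?_⟩
    rw [map_mul, map_pow, he t, ht, v_eq_exp Q hz, ← exp_nsmul, ← exp_nsmul, ← exp_add, ← exp_zero, exp_le_exp]
    simp only [nsmul_eq_mul, mul_neg, mul_one]
    have h1 : (M : ℤ) * 1 ≤ (M : ℤ) * e := mul_le_mul_of_nonneg_left (by omega) (by omega)
    omega
  choose! Nf hNf using hsmall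
  -- a dual basis with integral dual
  set n := Module.finrank K K'
  let c₀ := Module.finBasis K K'
  set N₀ := Qs.sup fun Q => Finset.univ.sup fun i => Nf Q (c₀ i)
  let u : Fin n → Kˣ := fun _ => Units.mk0 (t ^ N₀) (pow_ne_zero _ ht0)
  let c := c₀.unitsSMul u
  have hcint : ∀ i, ∀ Q ∈ Qs, Q.1 (c i) ≤ 1 := fun i Q hQ => by
    rw [show c i = algebraMap K K' t ^ N₀ * c₀ i by
      rw [← map_pow, ← Algebra.smul_def]; exact c₀.unitsSMul_apply i]
    exact hNf Q hQ _ _ (le_trans (Finset.le_sup (f := fun i => Nf Q (c₀ i)) (Finset.mem_univ i))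
      (Finset.le_sup (f := fun Q => Finset.univ.sup fun i => Nf Q (c₀ i)) hQ))
  let b := LinearMap.BilinForm.dualBasis (Algebra.traceForm K K') (traceForm_nondegenerate K K') c
  have hrepr : ∀ z i, b.repr z i = Algebra.trace K K' (z * c i) := fun z i => by
    rw [LinearMap.BilinForm.dualBasis_repr_apply, Algebra.traceForm_apply]
  -- the two lattices
  let B : Submodule k K' := ⨅ Q ∈ Qs, osub Q
  have hB : ∀ z, z ∈ B ↔ ∀ Q ∈ Qs, Q.1 z ≤ 1 := fun z => by simp only [B, Submodule.mem_iInf]; rfl
  let coord : K' →ₗ[k] (Fin n → K) := b.equivFun.toLinearMap.restrictScalars k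
  have hcoord : ∀ z i, coord z i = b.repr z i := fun z i => congrFun (b.equivFun_apply z) i
  let A' : Submodule k K' := ⨅ i, (osub P).comap (LinearMap.proj i ∘ₗ coord)
  have hA' : ∀ z, z ∈ A' ↔ ∀ i, P.1 (b.repr z i) ≤ 1 := fun z => by
    simp only [A', Submodule.mem_iInf, Submodule.mem_comap, LinearMap.comp_apply, LinearMap.proj_apply, hcoord]; rfl
  have hBA : B ≤ A' := fun z hz => (hA' z).2 fun i => by
    rw [hrepr]
    exact trace_int hK P fun Q hQ => by
      rw [map_mul]; exact mul_le_one' ((hB z).1 hz Q ((hQs Q).2 hQ)) (hcint i Q ((hQs Q).2 hQ))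
  set N := Qs.sup fun Q => Finset.univ.sup fun i => Nf Q (b i)
  let A'' : Submodule k K' := ⨅ i, (osub P).comap (LinearMap.mulLeft k ((t ^ N)⁻¹) ∘ₗ (LinearMap.proj i ∘ₗ coord))
  have hA'' : ∀ z, z ∈ A'' ↔ ∀ i, P.1 ((t ^ N)⁻¹ * b.repr z i) ≤ 1 := fun z => by
    simp only [A'', Submodule.mem_iInf, Submodule.mem_comap, LinearMap.comp_apply, LinearMap.proj_apply, hcoord]; rfl
  have hA''B : A'' ≤ B := fun z hz => (hB z).2 fun Q hQ => by
    rw [← b.sum_repr z]
    refine Valuation.map_sum_le _ fun i _ => ?_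
    obtain ⟨e, he⟩ := (hQs Q).1 hQ
    rw [show b.repr z i • b i = algebraMap K K' ((t ^ N)⁻¹ * b.repr z i) * (algebraMap K K' t ^ N * b i) by
      rw [Algebra.smul_def, map_mul, map_inv₀, map_pow]
      have : algebraMap K K' t ^ N ≠ 0 := pow_ne_zero _ ((map_ne_zero _).2 ht0)
      field_simp, map_mul, he]
    exact mul_le_one' (pow_le_one' ((hA'' z).1 hz i) e) (hNf Q hQ _ _ (le_trans
      (Finset.le_sup (f := fun i => Nf Q (b i)) (Finset.mem_univ i))
      (Finset.le_sup (f := fun Q => Finset.univ.sup fun i => Nf Q (b i)) hQ)))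
  -- finite index
  let L : K' →ₗ[k] (Fin n → Fin N → F) :=
    LinearMap.pi fun i => LinearMap.pi fun m => (cf k ((m : ℕ) : ℤ)) ∘ₗ (phiL φ ∘ₗ (LinearMap.proj i ∘ₗ coord))
  have hfin : ∀ S : Submodule k K', S ≤ A' → FR ((1 - onto A'') * onto S) := fun S hS => by
    refine FR.of_ker_le (L ∘ₗ onto S) fun z hz => ?_
    rw [LinearMap.mem_ker] at hz ⊢
    have hw := onto_mem S z
    have hmem : onto S z ∈ A'' := (hA'' _).2 fun i => by
      set w := b.repr (onto S z) i with hwdef
      have h0 : ∀ m < (N : ℤ), (φ w).coeff m = 0 := fun m hm => by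
        rcases lt_or_ge m 0 with h | h
        · exact (low_iff hφ w).2 ((hA' _).1 (hS hw) i) m h
        · obtain ⟨j, rfl⟩ := Int.eq_ofNat_of_zero_le h
          have := congrFun (congrFun hz i) ⟨j, by exact_mod_cast hm⟩
          simpa [L, cf, phiL, hcoord] using this
      have h1 := (LaurentSeries.valuation_le_iff_coeff_lt_eq_zero (K := F) (D := (N : ℤ))).2 h0
      rw [hφ.1] at h1
      rw [map_mul, map_inv₀, map_pow, ht, ← exp_nsmul, inv_mul_le_iff₀ (zero_lt_iff.2 exp_ne_zero), mul_one]
      simpa using h1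
    show onto S z - onto A'' (onto S z) = 0
    rw [onto_self A'' hmem, sub_self]
  set f := mK k y
  set g := mK k x'
  have hc : f * g = g * f := mK_comm y x'
  have hlin : ∀ z : K', (φ (0 : K)) = 0 ∧ coord z = fun i => b.repr z i := fun z => ⟨map_zero φ, funext (hcoord z)⟩
  -- residue with respect to the product of the valuation rings
  have key1 : Adm (onto B) f ∧ Adm (onto B) g ∧ res (onto B) f g = ∑ Q ∈ Qs, LocRes.locRes (ψ Q) y x' := by
    let ι : K' →ₗ[k] ({Q // Q ∈ Qs} → K') := LinearMap.pi fun _ => LinearMap.id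
    rcases Qs.eq_empty_or_nonempty with hemp | ⟨Q₀, hQ₀⟩
    · have : ∀ z, onto B z = z := fun z => onto_self B ((hB z).2 fun Q hQ => by rw [hemp] at hQ; simp at hQ)
      have h1 : onto B = 1 := LinearMap.ext this
      refine ⟨?_, ?_, ?_⟩ <;> simp [Adm, res, C, h1, hc, hemp, trF_zero, FR.zero]
    let πh : End k ({Q // Q ∈ Qs} → K') := LinearMap.pi fun Q => oproj Q.1 ∘ₗ LinearMap.proj Q
    let μ : K' → End k ({Q // Q ∈ Qs} → K') := fun w => LinearMap.pi fun Q => mK k w ∘ₗ LinearMap.proj Q
    have hadm : ∀ w, Adm πh (μ w) := fun w => by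
      refine (trF_pi _ (fun Q R => if Q = R then (1 - oproj Q.1) * mK k w * oproj Q.1 else 0) (fun a Q => ?_) fun Q R => ?_).1
      · rw [Finset.sum_eq_single_of_mem Q (Finset.mem_univ Q) (fun R _ hne => by rw [if_neg (Ne.symm hne), LinearMap.zero_apply]),
          if_pos rfl]
        rfl
      · split_ifs
        · exact (local_res (hψ Q.1 Q.2) w w).1
        · exact FR.zero
    have hU : ∃ M : ℤ, ∀ Q : {Q // Q ∈ Qs}, ∀ z : K', Q.1.1 z ≤ exp (-M) →
        Q.1.1 z ≤ 1 ∧ Q.1.1 (y * z) ≤ 1 ∧ Q.1.1 (x' * z) ≤ 1 ∧ Q.1.1 (y * (x' * z)) ≤ 1 := by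
      refine ⟨∑ Q : {Q // Q ∈ Qs}, (|log (Q.1.1 y)| + |log (Q.1.1 x')|), fun Q z hz => ?_⟩
      have hbd : ∀ w : K', Q.1.1 w ≤ exp |log (Q.1.1 w)| := fun w => by
        rcases eq_or_ne w 0 with rfl | hw
        · rw [map_zero]; exact zero_le'
        · rw [v_eq_exp Q.1 hw, log_exp]
          exact exp_le_exp.2 (le_abs_self _)
      have hle := Finset.single_le_sum (f := fun R : {Q // Q ∈ Qs} => |log (R.1.1 y)| + |log (R.1.1 x')|)
        (fun R _ => by positivity) (Finset.mem_univ Q)
      have h0 : ∀ j : ℤ, j ≤ |log (Q.1.1 y)| + |log (Q.1.1 x')| → exp j * Q.1.1 z ≤ 1 := fun j hj => by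
        refine (mul_le_mul' le_rfl hz).trans ?_
        exact le_of_eq_of_le (exp_add _ _).symm ((exp_le_exp.2 (by omega)).trans_eq exp_zero)
      refine ⟨by simpa using h0 0 (by positivity), ?_, ?_, ?_⟩
      · rw [map_mul]; exact (mul_le_mul' (hbd y) le_rfl).trans (h0 _ (le_add_of_nonneg_right (abs_nonneg _)))
      · rw [map_mul]; exact (mul_le_mul' (hbd x') le_rfl).trans (h0 _ (le_add_of_nonneg_left (abs_nonneg _)))
      · rw [map_mul, map_mul, ← mul_assoc]
        exact (mul_le_mul' (mul_le_mul' (hbd y) (hbd x')) le_rfl).trans (by rw [← exp_add]; exact h0 _ le_rfl)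
    obtain ⟨M, hM⟩ := hU
    let U : Submodule k ({Q // Q ∈ Qs} → K') :=
      { carrier := {a | ∀ Q, Q.1.1 (a Q) ≤ exp (-M)}
        add_mem' := fun {a a'} ha ha' Q => (Q.1.1.map_add _ _).trans (max_le (ha Q) (ha' Q))
        zero_mem' := fun Q => by rw [Pi.zero_apply, map_zero]; exact zero_le'
        smul_mem' := fun r a ha Q => (smul_le Q.1 r (a Q)).trans (ha Q) }
    have h := res_pullback ι (fun z z' e => congrFun e ⟨Q₀, hQ₀⟩) (π₁ := onto B) (f := f) (g := g) (πh := πh)
      (f₂ := μ y) (g₂ := μ x') (LinearMap.ext fun a => funext fun Q => oproj_self (oproj_le Q.1 (a Q))) rfl rfl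
      (LinearMap.ext fun a => funext fun Q => mul_left_comm y x' (a Q)) (hadm y) (hadm x')
      (fun z => funext fun Q => oproj_self ((hB _).1 (onto_mem B z) Q.1 Q.2))
      (fun z hz => onto_self B ((hB z).2 fun Q hQ => by
        rw [show z = oproj Q z from (congrFun hz ⟨Q, hQ⟩).symm]; exact oproj_le Q z))
      U (fun a ha => ⟨funext fun Q => oproj_self (hM Q _ (ha Q)).1, funext fun Q => oproj_self (hM Q _ (ha Q)).2.1,
        funext fun Q => oproj_self (hM Q _ (ha Q)).2.2.1, funext fun Q => oproj_self (hM Q _ (ha Q)).2.2.2⟩)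
      (fun a => by
        obtain ⟨z, hz⟩ := approx Qs (fun Q => if hQ : Q ∈ Qs then a ⟨Q, hQ⟩ else 0) (fun _ => -M)
        refine ⟨z, fun Q => ?_⟩
        show Q.1.1 (a Q - z) ≤ exp (-M)
        rw [Valuation.map_sub_swap]
        simpa [Q.2] using hz Q.1 Q.2)
    have hswap := res_pullback ι (fun z z' e => congrFun e ⟨Q₀, hQ₀⟩) (π₁ := onto B) (f := g) (g := f) (πh := πh)
      (f₂ := μ x') (g₂ := μ y) (LinearMap.ext fun a => funext fun Q => oproj_self (oproj_le Q.1 (a Q))) rfl rfl
      (LinearMap.ext fun a => funext fun Q => mul_left_comm x' y (a Q)) (hadm x') (hadm y)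
      (fun z => funext fun Q => oproj_self ((hB _).1 (onto_mem B z) Q.1 Q.2))
      (fun z hz => onto_self B ((hB z).2 fun Q hQ => by
        rw [show z = oproj Q z from (congrFun hz ⟨Q, hQ⟩).symm]; exact oproj_le Q z))
      U (fun a ha => ⟨funext fun Q => oproj_self (hM Q _ (ha Q)).1, funext fun Q => oproj_self (hM Q _ (ha Q)).2.2.1,
        funext fun Q => oproj_self (hM Q _ (ha Q)).2.1, funext fun Q => oproj_self (by
          show Q.1.1 (x' * (y * a Q)) ≤ 1
          rw [mul_left_comm]; exact (hM Q _ (ha Q)).2.2.2)⟩)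
      (fun a => by
        obtain ⟨z, hz⟩ := approx Qs (fun Q => if hQ : Q ∈ Qs then a ⟨Q, hQ⟩ else 0) (fun _ => -M)
        refine ⟨z, fun Q => ?_⟩
        show Q.1.1 (a Q - z) ≤ exp (-M)
        rw [Valuation.map_sub_swap]
        simpa [Q.2] using hz Q.1 Q.2)
    refine ⟨h.1, hswap.1, ?_⟩
    rw [h.2.2, res]
    obtain ⟨-, htr⟩ := trF_pi (C πh (μ y) (μ x'))
      (fun Q R => if Q = R then C (oproj Q.1) (mK k y) (mK k x') else 0) (fun a Q => by
        rw [Finset.sum_eq_single_of_mem Q (Finset.mem_univ Q) (fun R _ hne => by rw [if_neg (Ne.symm hne), LinearMap.zero_apply]),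
          if_pos rfl]
        rfl)
      (fun Q R => by
        split_ifs
        · exact (local_res (hψ Q.1 Q.2) y x').2.1
        · exact FR.zero)
    rw [htr, ← Finset.sum_coe_sort Qs]
    exact Finset.sum_congr rfl fun Q _ => by rw [if_pos rfl]; exact (local_res (hψ Q.1 Q.2) y x').2.2
  -- residue with respect to the standard lattice
  have key2 : Adm (onto A') f ∧ Adm (onto A') g ∧
      res (onto A') f g = LocRes.locRes φ (Algebra.trace K K' y) x := by
    let πh : End k (Fin n → K) := LinearMap.pi fun i => oproj P ∘ₗ LinearMap.proj i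
    let mat : K' → Fin n → Fin n → K := fun w i j => Algebra.leftMulMatrix b w i j
    let μ : K' → End k (Fin n → K) := fun w => LinearMap.pi fun i => ∑ j, mK k (mat w i j) ∘ₗ LinearMap.proj j
    have hμ : ∀ w z, μ w (coord z) = coord (w * z) := fun w z => funext fun i => by
      have h := congrFun (Algebra.leftMulMatrix_mulVec_repr b w z) i
      simp only [μ, mat, LinearMap.pi_apply, LinearMap.sum_apply, LinearMap.comp_apply, LinearMap.proj_apply, mK_apply,
        hcoord]
      exact h
    have hxd : ∀ i j, mat x' i j = if i = j then x else 0 := fun i j => by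
      show Algebra.leftMulMatrix b (algebraMap K K' x) i j = _
      rw [AlgHom.commutes, Matrix.algebraMap_matrix_apply]; rfl
    have hadm : ∀ w, Adm πh (μ w) := fun w => by
      refine (trF_pi _ (fun i j => (1 - oproj P) * mK k (mat w i j) * oproj P) (fun a i => ?_) fun i j =>
        (local_res hφ _ (mat w i j)).1).1
      simp only [μ, πh, Module.End.mul_apply, LinearMap.sub_apply, Module.End.one_apply, LinearMap.pi_apply,
        LinearMap.sum_apply, LinearMap.comp_apply, LinearMap.proj_apply, Pi.sub_apply, map_sum, Finset.sum_sub_distrib]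
    have hcs : ∀ a : Fin n → K, coord (b.equivFun.symm a) = a := fun a => b.equivFun.apply_symm_apply a
    have hinj : Function.Injective coord := b.equivFun.injective
    have h := res_pullback coord hinj (π₁ := onto A') (f := f) (g := g) (πh := πh) (f₂ := μ y) (g₂ := μ x')
      (LinearMap.ext fun a => funext fun i => oproj_self (oproj_le P (a i))) (LinearMap.ext (hμ y))
      (LinearMap.ext (hμ x'))
      (LinearMap.ext fun a => by
        show μ y (μ x' a) = μ x' (μ y a)
        rw [← hcs a, hμ, hμ, hμ, hμ, mul_left_comm])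
      (hadm y) (hadm x')
      (fun z => funext fun i => oproj_self (by
        show P.1 (coord (onto A' z) i) ≤ 1
        rw [hcoord]; exact (hA' _).1 (onto_mem A' z) i))
      (fun z hz => onto_self A' ((hA' z).2 fun i => by
        rw [← hcoord, show coord z i = oproj P (coord z i) from (congrFun hz i).symm]; exact oproj_le P _))
      (LinearMap.ker (1 - πh) ⊓ (LinearMap.ker (1 - πh)).comap (μ y) ⊓ (LinearMap.ker (1 - πh)).comap (μ x') ⊓
        (LinearMap.ker (1 - πh)).comap (μ y ∘ₗ μ x'))
      (fun a ha => by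
        obtain ⟨⟨⟨h1, h2⟩, h3⟩, h4⟩ := ha
        have he : ∀ v, v ∈ LinearMap.ker (1 - πh) → πh v = v := fun v hv => (sub_eq_zero.1 hv).symm
        exact ⟨he _ h1, he _ h2, he _ h3, he _ h4⟩)
      (fun a => ⟨b.equivFun.symm a, by rw [hcs, sub_self]; exact zero_mem _⟩)
    have hadmg : Adm (onto A') g := by
      refine (res_pullback coord hinj (π₁ := onto A') (f := g) (g := f) (πh := πh) (f₂ := μ x') (g₂ := μ y)
        (LinearMap.ext fun a => funext fun i => oproj_self (oproj_le P (a i))) (LinearMap.ext (hμ x'))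
        (LinearMap.ext (hμ y))
        (LinearMap.ext fun a => by
          show μ x' (μ y a) = μ y (μ x' a)
          rw [← hcs a, hμ, hμ, hμ, hμ, mul_left_comm])
        (hadm x') (hadm y)
        (fun z => funext fun i => oproj_self (by
          show P.1 (coord (onto A' z) i) ≤ 1
          rw [hcoord]; exact (hA' _).1 (onto_mem A' z) i))
        (fun z hz => onto_self A' ((hA' z).2 fun i => by
          rw [← hcoord, show coord z i = oproj P (coord z i) from (congrFun hz i).symm]; exact oproj_le P _))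
        ⊥ (fun a ha => by
          rw [(Submodule.mem_bot k).1 ha]
          simp only [map_zero, and_self])
        (fun a => ⟨b.equivFun.symm a, by rw [hcs, sub_self]; exact zero_mem _⟩)).1
    refine ⟨h.1, hadmg, ?_⟩
    rw [h.2.2, res]
    obtain ⟨-, htr⟩ := trF_pi (C πh (μ y) (μ x')) (fun i j => C (oproj P) (mK k (mat y i j)) (mK k x)) (fun a i => by
      simp only [C, μ, πh, Module.End.mul_apply, LinearMap.sub_apply, LinearMap.pi_apply, LinearMap.sum_apply,
        LinearMap.comp_apply, LinearMap.proj_apply, Pi.sub_apply, hxd, mK_apply, ite_mul, zero_mul, apply_ite (oproj P),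
        map_zero, Finset.sum_ite_eq, Finset.mem_univ, if_true, map_sum, Finset.mul_sum, Finset.sum_sub_distrib]
      congr 1
      rw [Finset.sum_comm]
      simp only [Finset.sum_ite_eq, Finset.mem_univ, if_true])
      (fun i j => (local_res hφ _ x).2.1)
    have hadd : ∀ (s : Finset (Fin n)) (a : Fin n → K),
        LocRes.locRes φ (∑ i ∈ s, a i) x = ∑ i ∈ s, LocRes.locRes φ (a i) x := fun s a =>
      map_sum (AddMonoidHom.mk' (fun z => LocRes.locRes φ z x) fun a b => locRes_add a b x) a s
    rw [htr, Algebra.trace_eq_matrix_trace b y, Matrix.trace, hadd]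
    exact Finset.sum_congr rfl fun i _ => (local_res hφ _ x).2.2
  have hon : ∀ S T : Submodule k K', S ≤ T → onto T * onto S = onto S := fun S T hST =>
    LinearMap.ext fun z => onto_self T (hST (onto_mem S z))
  have e1 := res_sublattice (onto_idem B) (hon A'' B hA''B) (onto_idem A'') (hfin B hBA) hc key1.1 key1.2.1
  have e2 := res_sublattice (onto_idem A') (hon A'' A' (hA''B.trans hBA)) (onto_idem A'') (hfin A' le_rfl) hc key2.1 key2.2.1
  rw [← key2.2.2, ← e2, e1, key1.2.2]

end Groth.Agent.FunFldLib.Tate
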