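import Groth.Agent.FunFldLib.Tate.Global

/-! Differentials are Weil differentials. -/

set_option autoImplicit false

open WithZero
open LocRes (IsExpansionAt)

namespace Groth.Agent.FunFldLib.Tate

open Module FunFld Groth.Agent.FunFldLib

variable {k K : Type*} [Field k] [Field K] [Algebra k K]

/-- `K` is separable over some `k(s)` -/
abbrev Sep (k K : Type*) [Field k] [Field K] [Algebra k K] : Prop :=
  ∃ s : K, Algebra.IsSeparable (IntermediateField.adjoin k ({s} : Set K)) K

theorem sep_of_geometric (hK : IsFunctionField k K) (hg : IsGeometric k K) : Sep k K :=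
  let ⟨s, _, _, h⟩ := exists_separating_of_geometric hK.1 hg
  ⟨s, h⟩

section Local

variable {F : Type*} [Field F] [Algebra k F] {P : Place k K} {φ : K →ₐ[k] LaurentSeries F}

theorem coeff_low {f : LaurentSeries F} {j : ℤ} (h : Valued.v f ≤ exp j) : ∀ m < -j, f.coeff m = 0 :=
  (LaurentSeries.valuation_le_iff_coeff_lt_eq_zero (K := F) (D := -j)).1 (by rwa [neg_neg])

theorem D_int (hφ : IsExpansionAt P.1 φ) {v : K} (hv : P.1 v ≤ 1) : Valued.v (LocRes.D F (φ v)) ≤ exp (0 : ℤ) := by
  have h := (LaurentSeries.valuation_le_iff_coeff_lt_eq_zero (K := F) (D := 0) (f := LocRes.D F (φ v))).2 fun m hm => by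
    rw [LocRes.D_coeff]
    rcases eq_or_ne m (-1) with rfl | hne
    · norm_num
    · rw [(low_iff hφ v).2 hv _ (by omega), smul_zero]
  rwa [neg_zero] at h

theorem vDiff_mul (hφ : IsExpansionAt P.1 φ) (y u v : K) :
    LocRes.vDiff φ (y * u) v = P.1 y * LocRes.vDiff φ u v := by
  rw [LocRes.vDiff, LocRes.vDiff, map_mul φ, mul_assoc, map_mul Valued.v, hφ.1]

theorem vDiff_le_one (hφ : IsExpansionAt P.1 φ) {u v : K} (hu : P.1 u ≤ 1) (hv : P.1 v ≤ 1) :
    LocRes.vDiff φ u v ≤ 1 := by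
  rw [LocRes.vDiff, map_mul, hφ.1]
  exact mul_le_one' hu ((D_int hφ hv).trans_eq exp_zero)

theorem resExp_zero {u v : K} (h : LocRes.vDiff φ u v ≤ 1) : LocRes.resExp φ u v = 0 :=
  coeff_low (j := 0) (by rwa [exp_zero]) (-1) (by norm_num)

theorem locRes_zero {u v : K} (h : LocRes.vDiff φ u v ≤ 1) : LocRes.locRes φ u v = 0 := by
  rw [LocRes.locRes, resExp_zero h, map_zero]

theorem locRes_add (a b v : K) : LocRes.locRes φ (a + b) v = LocRes.locRes φ a v + LocRes.locRes φ b v := by
  simp only [LocRes.locRes, LocRes.resExp, map_add, add_mul]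

theorem locRes_smul (c : k) (a v : K) : LocRes.locRes φ (c • a) v = c * LocRes.locRes φ a v := by
  rw [LocRes.locRes, LocRes.resExp, Algebra.smul_def, map_mul φ, mul_assoc, LocRes.map_algebraMap, LocRes.res_apply,
    HahnSeries.C_mul_eq_smul, HahnSeries.coeff_smul, algebraMap_smul, map_smul, smul_eq_mul]
  rfl

theorem vDiff_ne_zero (hs : Sep k K) (hφ : IsExpansionAt P.1 φ) {u v : K} (hu : u ≠ 0)
    (hv : KaehlerDifferential.D k K v ≠ 0) : LocRes.vDiff φ u v ≠ 0 := by
  obtain ⟨s, hsep⟩ := hs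
  rw [LocRes.vDiff, ne_eq, map_eq_zero, mul_eq_zero, not_or]
  exact ⟨fun h => hu (φ.toRingHom.injective (h.trans (map_zero φ).symm)), dExp_ne_zero s hφ hv⟩

theorem vDiff_eq_exp {u v : K} (h : LocRes.vDiff φ u v ≠ 0) : LocRes.vDiff φ u v = exp (-LocRes.ordDiff φ u v) := by
  rw [LocRes.ordDiff, neg_neg, exp_log h]

theorem exists_locRes_ne (hs : Sep k K) [FiniteDimensional k F] (hφ : IsExpansionAt P.1 φ)
    {u v : K} (hd : LocRes.vDiff φ u v ≠ 0) :
    ∃ a : K, P.1 a ≤ exp (LocRes.ordDiff φ u v + 1) ∧ LocRes.locRes φ (a * u) v ≠ 0 := by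
  obtain ⟨s, hsep⟩ := hs
  have hF : Algebra.IsSeparable k F := isSeparable_coeff s hφ
  obtain ⟨b, c, hbc⟩ : ∃ b c : F, Algebra.trace k F (b * c) ≠ 0 := by
    by_contra hcon
    push Not at hcon
    exact one_ne_zero ((traceForm_nondegenerate k F).1 (1 : F) fun c => hcon 1 c)
  obtain ⟨t, ht⟩ := hφ.2.2
  obtain ⟨j, hj⟩ : ∃ j : ℤ, LocRes.vDiff φ u v = exp j := ⟨_, (exp_log hd).symm⟩
  set g := φ (t ^ (j - 1)) * (φ u * LocRes.D F (φ v)) with hgdef
  have hgv : Valued.v g = exp (1 : ℤ) := by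
    rw [hgdef, map_mul, hφ.1, map_zpow₀, ht, show Valued.v (φ u * LocRes.D F (φ v)) = exp j from hj, ← exp_zsmul, ← exp_add]
    congr 1; simp
  have hρ : g.coeff (-1) ≠ 0 := fun h0 => by
    have h := (LaurentSeries.valuation_le_iff_coeff_lt_eq_zero (K := F) (D := 0) (f := g)).2 fun m hm => by
      rcases eq_or_ne m (-1) with rfl | hne
      · exact h0
      · exact coeff_low hgv.le m (by omega)
    rw [hgv, exp_le_exp] at h
    omega
  obtain ⟨f, hf, hf0⟩ := hφ.2.1 (b * c / g.coeff (-1))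
  refine ⟨f * t ^ (j - 1), ?_, ?_⟩
  · rw [map_mul, map_zpow₀, ht, ← exp_zsmul]
    refine (mul_le_of_le_one_left' hf).trans (exp_le_exp.2 (le_of_eq ?_))
    rw [LocRes.ordDiff, hj, log_exp]; simp; ring
  · have hfl := (low_iff hφ f).2 hf
    have hres : LocRes.resExp φ (f * t ^ (j - 1) * u) v = b * c := by
      show (φ (f * t ^ (j - 1) * u) * LocRes.D F (φ v)).coeff (-1) = b * c
      rw [map_mul, map_mul, mul_assoc (φ f * _), mul_assoc (φ f), ← hgdef]
      rw [show φ f = HahnSeries.single 0 ((φ f).coeff 0) + (φ f - HahnSeries.single 0 ((φ f).coeff 0)) by ring,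
        add_mul, HahnSeries.coeff_add, HahnSeries.coeff_single_mul, sub_zero, hf0, div_mul_cancel₀ _ hρ,
        Laurent.coeff_mul_low (A := 1) (B := -1) (fun m hm => by
          rw [HahnSeries.coeff_sub, HahnSeries.coeff_single]
          rcases eq_or_ne m 0 with rfl | hne
          · rw [if_pos rfl, hf0, sub_self]
          · rw [if_neg hne, hfl m (by omega), sub_zero]) (coeff_low hgv.le) (show (-1 : ℤ) < 1 + -1 by norm_num),
        add_zero]
    rw [LocRes.locRes, hres]
    exact hbc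

end Local

variable {F : Place k K → Type*} [∀ P, Field (F P)] [∀ P, Algebra k (F P)]

theorem res_support (hK : IsFF0 k K) (φ : ∀ P, K →ₐ[k] LaurentSeries (F P)) (hφ : ∀ P, IsExpansionAt P.1 (φ P))
    {a : Place k K → K} (ha : a ∈ adele k K) (u v : K) :
    {P : Place k K | LocRes.resExp (φ P) (a P * u) v ≠ 0}.Finite := by
  refine ((mem_adele.1 ha).union ((int_almost hK u).union (int_almost hK v))).subset fun P hP => ?_
  by_contra hcon
  simp only [Set.mem_union, Set.mem_ofPred_eq, not_or, not_not] at hcon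
  exact hP (resExp_zero (vDiff_le_one (hφ P) (by rw [map_mul]; exact mul_le_one' hcon.1 hcon.2.1) hcon.2.2))

theorem locRes_support (hK : IsFF0 k K) (φ : ∀ P, K →ₐ[k] LaurentSeries (F P)) (hφ : ∀ P, IsExpansionAt P.1 (φ P))
    {a : Place k K → K} (ha : a ∈ adele k K) (u v : K) :
    (Function.support fun P => LocRes.locRes (φ P) (a P * u) v).Finite :=
  (res_support hK φ hφ ha u v).subset fun P hP h0 => hP (by
    show LocRes.locRes (φ P) (a P * u) v = 0
    rw [LocRes.locRes, h0, map_zero])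

variable [∀ P, FiniteDimensional k (F P)]

/-- the residues of `u dv` form a Weil differential with divisor `ordDiff` -/
theorem exists_weil (hK : IsFunctionField k K) (hs : Sep k K) (φ : ∀ P, K →ₐ[k] LaurentSeries (F P))
    (hφ : ∀ P, IsExpansionAt P.1 (φ P)) {u v : K} (hu : u ≠ 0) (hv : KaehlerDifferential.D k K v ≠ 0) :
    ∃ (ω : Module.Dual k (adele k K)) (C : Divisor k K),
      (∀ a : adele k K, (Function.support fun P => LocRes.locRes (φ P) (a.1 P * u) v).Finite ∧
        ω a = ∑ᶠ P, LocRes.locRes (φ P) (a.1 P * u) v) ∧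
      IsDivOf ω C ∧ ∀ P, C P = LocRes.ordDiff (φ P) u v := by
  classical
  have hfin := fun a : adele k K => locRes_support hK.1 φ hφ a.2 u v
  let ω : Module.Dual k (adele k K) :=
    { toFun := fun a => ∑ᶠ P, LocRes.locRes (φ P) (a.1 P * u) v
      map_add' := fun a b => by
        rw [← finsum_add_distrib (hfin a) (hfin b)]
        exact finsum_congr fun P => by rw [← locRes_add, ← add_mul]; rfl
      map_smul' := fun c a => by
        rw [RingHom.id_apply, smul_eq_mul, mul_finsum]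
        exact finsum_congr fun P => by rw [← locRes_smul, ← smul_mul_assoc]; rfl }
  have hne : ∀ P, LocRes.vDiff (φ P) u v ≠ 0 := fun P => vDiff_ne_zero hs (hφ P) hu hv
  have hsingle : ∀ (P : Place k K) (y : K) (h : (Pi.single P y : Place k K → K) ∈ adele k K),
      ω ⟨Pi.single P y, h⟩ = LocRes.locRes (φ P) (y * u) v := fun P y h => by
    refine (finsum_eq_single _ P fun Q hQ => ?_).trans
      (show LocRes.locRes (φ P) ((Pi.single P y : Place k K → K) P * u) v = _ by rw [Pi.single_eq_same])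
    show LocRes.locRes (φ Q) ((Pi.single P y : Place k K → K) Q * u) v = 0
    rw [Pi.single_eq_of_ne hQ, zero_mul]
    exact locRes_zero (by rw [LocRes.vDiff, map_zero, zero_mul, map_zero]; exact zero_le')
  have hsmem : ∀ (P : Place k K) (y : K), (Pi.single P y : Place k K → K) ∈ adele k K := fun P y =>
    mem_adele.2 ((Set.finite_singleton P).subset fun Q hQ => by
      by_contra hne'
      exact hQ (by rw [Pi.single_eq_of_ne hne', map_zero]; exact zero_le'))
  have hWD : ∀ D : Divisor k K, (∀ P, D P ≤ LocRes.ordDiff (φ P) u v) → ω ∈ WD D := fun D hD => mem_WD.2 fun a ha => by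
    obtain ⟨b, hb, c, ⟨x, rfl⟩, e⟩ := Submodule.mem_sup.1 ha
    have hbA : b ∈ adele k K := AD_le_adele D hb
    have hxA : diag k K x ∈ adele k K := range_diag_le_adele hK.1 ⟨x, rfl⟩
    rw [show a = ⟨b, hbA⟩ + ⟨diag k K x, hxA⟩ from Subtype.ext e.symm, map_add]
    have h1 : ω ⟨b, hbA⟩ = 0 := finsum_eq_zero_of_forall_eq_zero fun P => locRes_zero (by
      rw [vDiff_mul (hφ P), vDiff_eq_exp (hne P)]
      refine (mul_le_mul' (mem_AD.1 hb P) le_rfl).trans ?_
      rw [← exp_add, ← exp_zero, exp_le_exp]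
      linarith [hD P])
    have h2 : ω ⟨diag k K x, hxA⟩ = 0 := (residue_theorem hK φ hφ (x * u) v).2
    rw [h1, h2, add_zero]
  set S := ((int_almost hK.1 u).union (int_almost hK.1 v)).toFinset
  let D : Divisor k K := Finsupp.indicator S fun P _ => LocRes.ordDiff (φ P) u v
  have hD : ∀ P, D P ≤ LocRes.ordDiff (φ P) u v := fun P => by
    show Finsupp.indicator S (fun Q _ => LocRes.ordDiff (φ Q) u v) P ≤ _
    rw [Finsupp.indicator_apply]
    split_ifs with h
    · exact le_rfl
    · simp only [S, Set.Finite.mem_toFinset, Set.mem_union, Set.mem_ofPred_eq, not_or, not_not] at h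
      have h1 := vDiff_le_one (hφ P) h.1 h.2
      rw [vDiff_eq_exp (hne P), ← exp_zero, exp_le_exp] at h1
      omega
  have hω0 : ω ≠ 0 := fun h0 => by
    obtain ⟨P⟩ := nonempty_place hK.1
    obtain ⟨a, -, ha⟩ := exists_locRes_ne hs (hφ P) (hne P)
    apply ha
    rw [← hsingle P a (hsmem P a), h0]; rfl
  obtain ⟨C, hC⟩ := exists_isDivOf hK ⟨D, hWD D hD⟩ hω0
  refine ⟨ω, C, fun a => ⟨hfin a, rfl⟩, hC, fun P => le_antisymm ?_ ?_⟩
  · by_contra hlt
    obtain ⟨a, hav, ha⟩ := exists_locRes_ne hs (hφ P) (hne P)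
    apply ha
    rw [← hsingle P a (hsmem P a)]
    refine mem_WD.1 ((hC C).2 le_rfl) _ (Submodule.mem_sup_left (mem_AD.2 fun Q => ?_))
    show Q.1 ((Pi.single P a : Place k K → K) Q) ≤ _
    rcases eq_or_ne Q P with rfl | hQ
    · rw [Pi.single_eq_same]; exact hav.trans (exp_le_exp.2 (by omega))
    · rw [Pi.single_eq_of_ne hQ, map_zero]; exact zero_le'
  · set D' := D + Finsupp.single P (LocRes.ordDiff (φ P) u v - D P) with hD'
    have h : D' ≤ C := (hC D').1 (hWD D' fun Q => by
      rcases eq_or_ne Q P with rfl | hQ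
      · simp [hD']
      · rw [hD', Finsupp.add_apply, Finsupp.single_eq_of_ne hQ, add_zero]; exact hD Q)
    simpa [hD'] using h P

/-- the differentials bounded by a divisor form a Riemann-Roch space -/
theorem mem_L_iff_vDiff (hK : IsFunctionField k K) (hs : Sep k K) (φ : ∀ P, K →ₐ[k] LaurentSeries (F P))
    (hφ : ∀ P, IsExpansionAt P.1 (φ P)) {v : K} (hv : KaehlerDifferential.D k K v ≠ 0) {C : Divisor k K}
    (hC : ∀ P, C P = LocRes.ordDiff (φ P) 1 v) (D : Divisor k K) (y : K) :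
    y ∈ FunFld.L (C - D) ↔ ∀ P, LocRes.vDiff (φ P) y v ≤ exp (-(D P)) := by
  rw [mem_L]
  refine forall_congr' fun P => ?_
  conv_rhs => rw [← mul_one y, vDiff_mul (hφ P), vDiff_eq_exp (vDiff_ne_zero hs (hφ P) one_ne_zero hv), ← hC P]
  rw [Finsupp.sub_apply, show (C P - D P) = C P + -(D P) by ring, exp_add, ← mul_inv_le_iff₀' (zero_lt_iff.2 exp_ne_zero),
    exp_neg (C P), mul_comm]

end Groth.Agent.FunFldLib.Tate
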