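import Groth.Agent.FunFldLib.Tate.Pullback
import Mathlib.RingTheory.Valuation.Extension
import Mathlib.RingTheory.Trace.Basic

/-! The trace formula for residues of complete fields. -/

set_option autoImplicit false

open WithZero
open LocRes (IsExpansionAt)

namespace Groth.Agent.FunFldLib.Tate

open Module

variable {k E F : Type*} [Field k] [Field E] [Algebra k E] [Field F] [Algebra k F]
  {w : Valuation E (WithZero (Multiplicative ℤ))} {φ : E →ₐ[k] LaurentSeries F}

theorem vlow_iff (hφ : IsExpansionAt w φ) (x : E) (j : ℤ) :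
    (∀ m < j, (φ x).coeff m = 0) ↔ w x ≤ exp (-j) := by
  rw [← LaurentSeries.valuation_le_iff_coeff_lt_eq_zero (K := F) (D := j), hφ.1]

theorem vdense (hφ : IsExpansionAt w φ) (y : LaurentSeries F) (N : ℤ) : ∃ x : E, ∀ m < N, (y - φ x).coeff m = 0 := by
  suffices ∀ n : ℕ, ∃ x : E, ∀ m < y.order + n, (y - φ x).coeff m = 0 by
    obtain ⟨x, hx⟩ := this (N - y.order).toNat
    exact ⟨x, fun m hm => hx m (by omega)⟩
  intro n
  induction n with
  | zero => exact ⟨0, fun m hm => by rw [map_zero, sub_zero]; exact HahnSeries.coeff_eq_zero_of_lt_order (by simpa using hm)⟩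
  | succ n ih =>
    obtain ⟨x, hx⟩ := ih
    set j := y.order + n
    obtain ⟨t, ht⟩ := hφ.2.2
    have hv : w (t ^ j) = exp (-j) := by rw [map_zpow₀, ht, ← exp_zsmul]; simp
    have hlow : ∀ m < j, (φ (t ^ j)).coeff m = 0 := (vlow_iff hφ _ j).2 hv.le
    have hγ : (φ (t ^ j)).coeff j ≠ 0 := fun h0 => by
      have h := (vlow_iff hφ (t ^ j) (j + 1)).1 fun m hm => by
        rcases eq_or_ne m j with rfl | hne
        · exact h0
        · exact hlow m (by omega)
      rw [hv, exp_le_exp] at h
      omega
    obtain ⟨f, hf, hf0⟩ := hφ.2.1 ((y - φ x).coeff j / (φ (t ^ j)).coeff j)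
    refine ⟨x + f * t ^ j, fun m hm => ?_⟩
    have hfl := (vlow_iff hφ f 0).2 (by rwa [neg_zero, exp_zero])
    have hsplit : φ f = HahnSeries.single 0 ((φ f).coeff 0) + (φ f - HahnSeries.single 0 ((φ f).coeff 0)) := by ring
    rw [map_add, sub_add_eq_sub_sub, HahnSeries.coeff_sub, map_mul]
    rcases eq_or_ne m j with rfl | hne
    · rw [hsplit, add_mul, HahnSeries.coeff_add, HahnSeries.coeff_single_mul, sub_zero, hf0,
        Laurent.coeff_mul_low (A := 1) (fun i hi => by
          rw [HahnSeries.coeff_sub, HahnSeries.coeff_single]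
          rcases eq_or_ne i 0 with rfl | h
          · rw [if_pos rfl, hf0, sub_self]
          · rw [if_neg h, hfl i (by omega), sub_zero]) hlow (show j < 1 + j by omega),
        add_zero, div_mul_cancel₀ _ hγ, sub_self]
    · rw [hx m (by push_cast at hm; omega), Laurent.coeff_mul_low hfl hlow (show m < 0 + j by push_cast at hm; omega),
        sub_zero]

/-- the valuation ring as a subspace -/
noncomputable def vring (hφ : IsExpansionAt w φ) : Submodule k E where
  carrier := {x | w x ≤ 1}
  add_mem' {a b} ha hb := (w.map_add a b).trans (max_le ha hb)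
  zero_mem' := by
    show w 0 ≤ 1
    rw [map_zero]; exact zero_le'
  smul_mem' c a ha := by
    show w (c • a) ≤ 1
    rw [Algebra.smul_def, map_mul]
    refine mul_le_one' ?_ ha
    have h := (vlow_iff hφ (algebraMap k E c) 0).1 fun m hm => by
      rw [LocRes.map_algebraMap, HahnSeries.C_apply, HahnSeries.coeff_single_of_ne (by omega)]
    rwa [neg_zero, exp_zero] at h

variable [FiniteDimensional k F]

/-- the residue on a valued field with an expansion -/
theorem vlocal_res (hφ : IsExpansionAt w φ) (f g : E) :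
    Adm (onto (vring hφ)) (mK k f) ∧ FR (C (onto (vring hφ)) (mK k f) (mK k g)) ∧
      res (onto (vring hφ)) (mK k f) (mK k g) = T k (φ f) (φ g) := by
  let ι : E →ₗ[k] LaurentSeries F := phiL φ
  have hA : ∀ x, (∀ m < (0 : ℤ), (φ x).coeff m = 0) ↔ w x ≤ 1 := fun x => by
    rw [vlow_iff hφ x 0, neg_zero, exp_zero]
  set N := max 0 (max (-(φ f).order) (max (-(φ g).order) (-(φ f).order - (φ g).order)))
  let U : Submodule k (LaurentSeries F) :=
    { carrier := {y | ∀ m < N, y.coeff m = 0}
      add_mem' := fun {a b} ha hb m hm => by rw [HahnSeries.coeff_add, ha m hm, hb m hm, add_zero]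
      zero_mem' := fun m _ => HahnSeries.coeff_zero
      smul_mem' := fun c a ha m hm => by rw [HahnSeries.coeff_smul, ha m hm, smul_zero] }
  have hord : ∀ u : E, ∀ m < (φ u).order, (φ u).coeff m = 0 := fun u m hm => HahnSeries.coeff_eq_zero_of_lt_order hm
  obtain ⟨h1, h2, h3⟩ := res_pullback ι phiL_injective (π₁ := onto (vring hφ)) (f := mK k f) (g := mK k g)
    (πh := proj k F) (f₂ := M k (φ f)) (g₂ := M k (φ g)) (proj_idem k)
    (LinearMap.ext fun x => (map_mul φ f x).symm) (LinearMap.ext fun x => (map_mul φ g x).symm) (M_comm k _ _)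
    (adm k _) (adm k _) (fun x => proj_eq_self k ((hA _).2 (onto_mem (vring hφ) x)))
    (fun x hx => onto_self (vring hφ) ((hA x).1 fun m hm => by
      rw [show φ x = proj k F (φ x) from hx.symm]; exact proj_low k _ m hm))
    U (fun y hy => ⟨proj_eq_self k fun m hm => hy m (by omega),
      proj_eq_self k fun m hm => Laurent.coeff_mul_low (hord f) hy (by omega),
      proj_eq_self k fun m hm => Laurent.coeff_mul_low (hord g) hy (by omega),
      proj_eq_self k fun m hm => Laurent.coeff_mul_low (hord f) (B := (φ g).order + N)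
        (fun i hi => Laurent.coeff_mul_low (hord g) hy hi) (by omega)⟩)
    (fun y => by
      obtain ⟨x, hx⟩ := vdense hφ y N
      exact ⟨x, hx⟩)
  exact ⟨h1, h2, h3.trans (R_eq_T k (φ f) (φ g))⟩

end Groth.Agent.FunFldLib.Tate
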