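import Groth.Agent.FunFldLib.Tate.Complete

/-! Residues and traces over a complete field. -/

set_option autoImplicit false

open WithZero
open LocRes (IsExpansionAt)

namespace Groth.Agent.FunFldLib.Tate

open Module

variable {k L F E : Type*} [Field k] [Field L] [Field F] [Field E] [Algebra k L] [FiniteDimensional k L]
  [Algebra k F] [Algebra k E] [Algebra F E] [IsScalarTower k F E] [FiniteDimensional F E]
  {v : Valuation F (WithZero (Multiplicative ℤ))} {w : Valuation E (WithZero (Multiplicative ℤ))} [v.HasExtension w]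
  {φ : F →ₐ[k] LaurentSeries k} {ψ : E →ₐ[k] LaurentSeries L}

theorem le_one_map (x : F) : w (algebraMap F E x) ≤ 1 ↔ v x ≤ 1 :=
  (Valuation.HasExtension.val_map_le_one_iff v w x)

/-- a complete field: the valuation ring upstairs is finitely generated -/
theorem exists_gens (hφ : IsExpansionAt v φ) (hφs : Function.Surjective φ) (hψ : IsExpansionAt w ψ) :
    ∃ (ι : Type) (_ : Fintype ι) (g : ι → E), ∀ z : E, w z ≤ 1 →
      ∃ A : ι → F, (∀ i, v (A i) ≤ 1) ∧ z = ∑ i, algebraMap F E (A i) * g i := by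
  classical
  obtain ⟨t, ht⟩ := hφ.2.2
  set τ := algebraMap F E t
  have ht0 : t ≠ 0 := fun h => by rw [h, map_zero] at ht; exact exp_ne_zero ht.symm
  have hτ0 : τ ≠ 0 := (map_ne_zero _).2 ht0
  obtain ⟨e, he, hepos⟩ : ∃ e : ℕ, w τ = exp (-(e : ℤ)) ∧ 0 < e := by
    have hlt : w τ < 1 := by
      refine lt_of_le_of_ne ((le_one_map t).2 (by rw [ht, ← exp_zero, exp_le_exp]; norm_num)) fun h => ?_
      have h1 : w (algebraMap F E t⁻¹) ≤ 1 := by rw [map_inv₀, map_inv₀]; exact le_of_eq (inv_eq_one.2 h)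
      rw [le_one_map (v := v), map_inv₀, ht, ← exp_neg, ← exp_zero, exp_le_exp] at h1
      norm_num at h1
    obtain ⟨j, hj⟩ : ∃ j : ℤ, w τ = exp j := ⟨_, (exp_log ((Valuation.ne_zero_iff w).2 hτ0)).symm⟩
    rw [hj, ← exp_zero, exp_lt_exp] at hlt
    exact ⟨(-j).toNat, by rw [hj]; congr 1; omega, by omega⟩
  let γ := Module.finBasis k L
  choose g hg using fun p : Fin e × Fin (Module.finrank k L) =>
    vdense hψ (HahnSeries.single ((p.1 : ℕ) : ℤ) (γ p.2)) e
  refine ⟨Fin e × Fin (Module.finrank k L), inferInstance, g, fun z hz => ?_⟩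
  have hgint : ∀ p, w (g p) ≤ 1 := fun p => by
    rw [← exp_zero, ← neg_zero, ← vlow_iff hψ]
    intro m hm
    have h := hg p m (by omega)
    rw [HahnSeries.coeff_sub, HahnSeries.coeff_single_of_ne (by omega), zero_sub, neg_eq_zero] at h
    exact h
  let cf' : E → Fin e × Fin (Module.finrank k L) → k := fun u p => γ.repr ((ψ u).coeff ((p.1 : ℕ) : ℤ)) p.2
  let comb : E → E := fun u => ∑ p, algebraMap k E (cf' u p) * g p
  have hstep : ∀ u, w u ≤ 1 → w (u - comb u) ≤ exp (-(e : ℤ)) := fun u hu => by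
    rw [← vlow_iff hψ]
    intro m hm
    rw [map_sub, HahnSeries.coeff_sub, sub_eq_zero, map_sum, HahnSeries.coeff_sum]
    have hterm : ∀ p, (ψ (algebraMap k E (cf' u p) * g p)).coeff m =
        if m = ((p.1 : ℕ) : ℤ) then cf' u p • γ p.2 else 0 := fun p => by
      rw [map_mul, LocRes.map_algebraMap, HahnSeries.C_mul_eq_smul, HahnSeries.coeff_smul, algebraMap_smul]
      have h := hg p m hm
      rw [HahnSeries.coeff_sub, sub_eq_zero] at h
      rw [← h, HahnSeries.coeff_single]
      split_ifs <;> simp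
    simp only [hterm]
    rcases lt_or_ge m 0 with h0 | h0
    · rw [(vlow_iff hψ u 0).2 (by rwa [neg_zero, exp_zero]) m h0]
      exact (Finset.sum_eq_zero fun p _ => if_neg (by omega)).symm
    · obtain ⟨j, rfl⟩ := Int.eq_ofNat_of_zero_le h0
      rw [Fintype.sum_prod_type, Finset.sum_eq_single (⟨j, by exact_mod_cast hm⟩ : Fin e)]
      · conv_lhs => rw [← γ.sum_repr ((ψ u).coeff (j : ℤ))]
        exact Finset.sum_congr rfl fun l _ => by rw [if_pos rfl]
      · intro i _ hne
        exact Finset.sum_eq_zero fun l _ => if_neg fun h => hne (Fin.ext (show (i : ℕ) = j by exact_mod_cast h.symm))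
      · exact fun h => absurd (Finset.mem_univ _) h
  let seq : ℕ → E := fun n => Nat.rec z (fun _ u => (u - comb u) / τ) n
  have hseq : ∀ n, w (seq n) ≤ 1 := by
    intro n
    induction n with
    | zero => exact hz
    | succ n ih =>
      show w ((seq n - comb (seq n)) / τ) ≤ 1
      rw [map_div₀, he, div_le_one₀ (zero_lt_iff.2 exp_ne_zero)]
      exact hstep _ ih
  let a : ℕ → Fin e × Fin (Module.finrank k L) → k := fun n => cf' (seq n)
  let part : ℕ → Fin e × Fin (Module.finrank k L) → F := fun N p => ∑ n ∈ Finset.range N, algebraMap k F (a n p) * t ^ n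
  have hsplit : ∀ N, z = ∑ p, algebraMap F E (part N p) * g p + τ ^ N * seq N := by
    intro N
    induction N with
    | zero => simp [part, seq]
    | succ N ih =>
      conv_lhs => rw [ih]
      have hs : τ * seq (N + 1) = seq N - comb (seq N) := mul_div_cancel₀ _ hτ0
      rw [pow_succ, mul_assoc, hs, mul_sub]
      have : ∀ p, algebraMap F E (part (N + 1) p) * g p =
          algebraMap F E (part N p) * g p + τ ^ N * (algebraMap k E (a N p) * g p) := fun p => by
        simp only [part, Finset.sum_range_succ, map_add, map_mul, map_pow, ← IsScalarTower.algebraMap_apply k F E]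
        ring
      simp only [this, Finset.sum_add_distrib, ← Finset.mul_sum]
      ring
  have hpow : ∀ (n : ℕ), ∀ m < (n : ℤ), (φ (t ^ n)).coeff m = 0 := fun n => (vlow_iff hφ _ n).2 (by
    rw [map_pow, ht, ← exp_nsmul]; simp)
  have hstab : ∀ (N N' : ℕ) p, N ≤ N' → ∀ m < (N : ℤ), (φ (part N' p)).coeff m = (φ (part N p)).coeff m := by
    intro N N' p hNN'
    induction hNN' with
    | refl => exact fun m _ => rfl
    | step hle ih =>
      intro m hm
      rename_i N'
      simp only [part, Finset.sum_range_succ, map_add, map_mul, LocRes.map_algebraMap, HahnSeries.C_mul_eq_smul,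
        HahnSeries.coeff_add, HahnSeries.coeff_smul]
      rw [hpow N' m (lt_of_lt_of_le hm (by exact_mod_cast hle)), smul_zero, add_zero]
      exact ih m hm
  choose A hA using fun p => hφs (HahnSeries.ofSuppBddBelow
    (fun m : ℤ => if m < 0 then 0 else (φ (part (m.toNat + 1) p)).coeff m)
    ⟨0, fun m hm => not_lt.1 fun h => hm (if_pos h)⟩)
  have hAN : ∀ p (N : ℕ), ∀ m < (N : ℤ), (φ (A p - part N p)).coeff m = 0 := by
    intro p N m hm
    rw [map_sub, hA, HahnSeries.coeff_sub, sub_eq_zero]
    show (if m < 0 then 0 else (φ (part (m.toNat + 1) p)).coeff m) = _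
    split_ifs with h
    · refine ((vlow_iff hφ (part N p) 0).2 ?_ m h).symm
      rw [neg_zero, exp_zero]
      refine Valuation.map_sum_le _ fun n _ => ?_
      rw [map_mul, map_pow, ht, ← exp_nsmul]
      refine mul_le_one' ?_ (by rw [← exp_zero, exp_le_exp]; simp)
      exact (vring hφ).smul_mem (a n p) (show v (1 : F) ≤ 1 from le_of_eq (map_one v)) |> fun h1 => by
        simpa [Algebra.smul_def] using (show v (a n p • (1 : F)) ≤ 1 from h1)
    · rw [← hstab (m.toNat + 1) (max N (m.toNat + 1)) p (le_max_right _ _) m (by omega),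
        hstab N (max N (m.toNat + 1)) p (le_max_left _ _) m hm]
  refine ⟨A, fun p => ?_, ?_⟩
  · rw [← exp_zero, ← neg_zero, ← vlow_iff hφ]
    intro m hm
    have h := hAN p 0 m hm
    simpa [part] using h
  · by_contra hne
    obtain ⟨j, hj⟩ : ∃ j : ℤ, w (z - ∑ p, algebraMap F E (A p) * g p) = exp j :=
      ⟨_, (exp_log ((Valuation.ne_zero_iff w).2 (sub_ne_zero.2 hne))).symm⟩
    set N := (-j).toNat + 1
    have hbd : ∀ u : F, (∀ m < (N : ℤ), (φ u).coeff m = 0) → w (algebraMap F E u) ≤ exp (-((e : ℤ) * N)) := fun u hu => by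
      have h1 : v (u / t ^ N) ≤ 1 := by
        rw [map_div₀, map_pow, ht, ← exp_nsmul, div_le_one₀ (zero_lt_iff.2 exp_ne_zero)]
        simpa using (vlow_iff hφ u N).1 hu
      have h2 := (le_one_map (w := w) (u / t ^ N)).2 h1
      rw [map_div₀, map_pow, map_div₀, map_pow, he, ← exp_nsmul, div_le_one₀ (zero_lt_iff.2 exp_ne_zero)] at h2
      refine h2.trans (exp_le_exp.2 (le_of_eq ?_))
      simp [mul_comm]
    have hle : w (z - ∑ p, algebraMap F E (A p) * g p) ≤ exp (-((e : ℤ) * N)) := by
      conv_lhs => rw [hsplit N]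
      rw [show ∑ p, algebraMap F E (part N p) * g p + τ ^ N * seq N - ∑ p, algebraMap F E (A p) * g p =
        τ ^ N * seq N - ∑ p, algebraMap F E (A p - part N p) * g p by
          simp only [map_sub, sub_mul, Finset.sum_sub_distrib]; ring]
      refine (w.map_sub _ _).trans (max_le ?_ (Valuation.map_sum_le _ fun p _ => ?_))
      · rw [map_mul, map_pow, he, ← exp_nsmul]
        refine (mul_le_mul' le_rfl (hseq N)).trans_eq ?_
        rw [mul_one]; congr 1; simp [mul_comm]
      · rw [map_mul]
        exact (mul_le_mul' (hbd _ (hAN p N)) (hgint p)).trans_eq (mul_one _)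
    rw [hj, exp_le_exp] at hle
    have h3 : (N : ℤ) * 1 ≤ (e : ℤ) * N := by rw [mul_comm (e : ℤ)]; exact mul_le_mul_of_nonneg_left (by omega) (by omega)
    omega

theorem trace_formula_complete (hφ : IsExpansionAt v φ) (hφs : Function.Surjective φ) (hψ : IsExpansionAt w ψ)
    (y : E) (x : F) :
    T k (φ (Algebra.trace F E y)) (φ x) = T k (ψ y) (ψ (algebraMap F E x)) := by
  classical
  set x' := algebraMap F E x
  obtain ⟨ι, hι, g, hg⟩ := exists_gens hφ hφs hψ
  obtain ⟨t, ht⟩ := hφ.2.2
  have ht0 : t ≠ 0 := fun h => by rw [h, map_zero] at ht; exact exp_ne_zero ht.symm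
  set n := Module.finrank F E
  let b := Module.finBasis F E
  have hval : ∀ (u : F) (j : ℤ), v u ≤ exp j ↔ v (t ^ j * u) ≤ 1 := fun u j => by
    rw [map_mul, map_zpow₀, ht, ← exp_zsmul, smul_eq_mul, mul_neg, mul_one, exp_neg,
      inv_mul_le_iff₀ (zero_lt_iff.2 exp_ne_zero), mul_one]
  obtain ⟨R, hR⟩ : ∃ R : ℕ, ∀ i l, v (t ^ (R : ℤ) * b.repr (g l) i) ≤ 1 := by
    refine ⟨Finset.univ.sup fun p : Fin n × ι => (log (v (b.repr (g p.2) p.1))).toNat, fun i l => ?_⟩
    rw [← hval]
    rcases eq_or_ne (b.repr (g l) i) 0 with h | h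
    · rw [h, map_zero]; exact zero_le'
    · rw [← exp_log ((Valuation.ne_zero_iff v).2 h), exp_le_exp]
      refine (Int.self_le_toNat _).trans (Int.ofNat_le.2 ?_)
      exact Finset.le_sup (f := fun p : Fin n × ι => (log (v (b.repr (g p.2) p.1))).toNat) (Finset.mem_univ (i, l))
  let coord : E →ₗ[k] (Fin n → F) := b.equivFun.toLinearMap.restrictScalars k
  have hcoord : ∀ z i, coord z i = b.repr z i := fun z i => congrFun (b.equivFun_apply z) i
  set B := vring hψ
  set O := vring hφ
  have hBR : ∀ z ∈ B, ∀ i, v (t ^ (R : ℤ) * b.repr z i) ≤ 1 := by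
    intro z hz i
    obtain ⟨A, hA, rfl⟩ := hg z hz
    simp only [← Algebra.smul_def, map_sum, map_smul, Finsupp.finsetSum_apply, Finsupp.smul_apply, smul_eq_mul,
      Finset.mul_sum]
    refine Valuation.map_sum_le _ fun l _ => ?_
    rw [mul_left_comm, map_mul]
    exact mul_le_one' (hA l) (hR i l)
  let A' : Submodule k E := ⨅ i, O.comap (LinearMap.proj i ∘ₗ coord)
  have hA' : ∀ z, z ∈ A' ↔ ∀ i, v (b.repr z i) ≤ 1 := fun z => by
    simp only [A', Submodule.mem_iInf, Submodule.mem_comap, LinearMap.comp_apply, LinearMap.proj_apply, hcoord]; rfl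
  -- a small sublattice
  obtain ⟨N, hN⟩ : ∃ N : ℕ, ∀ i, w (algebraMap F E (t ^ N) * b i) ≤ 1 := by
    have hlt : w (algebraMap F E t) < 1 := by
      refine lt_of_le_of_ne ((le_one_map t).2 (by rw [ht, ← exp_zero, exp_le_exp]; norm_num)) fun h => ?_
      have h1 : w (algebraMap F E t⁻¹) ≤ 1 := by rw [map_inv₀, map_inv₀]; exact le_of_eq (inv_eq_one.2 h)
      rw [le_one_map (v := v), map_inv₀, ht, ← exp_neg, ← exp_zero, exp_le_exp] at h1
      norm_num at h1
    rw [lt_one_iff_le] at hlt
    refine ⟨Finset.univ.sup fun i => (log (w (b i))).toNat, fun i => ?_⟩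
    have hi : (log (w (b i))).toNat ≤ Finset.univ.sup fun i => (log (w (b i))).toNat :=
      Finset.le_sup (f := fun i => (log (w (b i))).toNat) (Finset.mem_univ i)
    rw [map_pow, map_mul, map_pow, ← exp_log ((Valuation.ne_zero_iff w).2 (b.ne_zero i))]
    refine (mul_le_mul' (pow_le_pow_left' hlt _) le_rfl).trans ?_
    rw [← exp_nsmul, ← exp_add, ← exp_zero, exp_le_exp]
    simp only [smul_neg, nsmul_eq_mul, mul_one]
    omega
  let A'' : Submodule k E := ⨅ i, O.comap (LinearMap.mulLeft k ((t ^ N)⁻¹) ∘ₗ (LinearMap.proj i ∘ₗ coord))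
  have hA'' : ∀ z, z ∈ A'' ↔ ∀ i, v ((t ^ N)⁻¹ * b.repr z i) ≤ 1 := fun z => by
    simp only [A'', Submodule.mem_iInf, Submodule.mem_comap, LinearMap.comp_apply, LinearMap.proj_apply, hcoord]; rfl
  have hA''B : A'' ≤ B := fun z hz => by
    show w z ≤ 1
    rw [← b.sum_repr z]
    refine Valuation.map_sum_le _ fun i _ => ?_
    rw [show b.repr z i • b i = algebraMap F E ((t ^ N)⁻¹ * b.repr z i) * (algebraMap F E (t ^ N) * b i) by
      rw [Algebra.smul_def, map_mul, map_inv₀]
      have : algebraMap F E (t ^ N) ≠ 0 := (map_ne_zero _).2 (pow_ne_zero _ ht0)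
      field_simp, map_mul]
    exact mul_le_one' ((le_one_map _).2 ((hA'' z).1 hz i)) (hN i)
  have hA''A' : A'' ≤ A' := fun z hz => (hA' z).2 fun i => by
    have h := (hA'' z).1 hz i
    have : b.repr z i = t ^ N * ((t ^ N)⁻¹ * b.repr z i) := by field_simp
    rw [this, map_mul]
    exact mul_le_one' (by rw [map_pow, ht, ← exp_nsmul, ← exp_zero, exp_le_exp]; simp) h
  let L0 : E →ₗ[k] (Fin n → Fin (N + R) → k) :=
    LinearMap.pi fun i => LinearMap.pi fun m => (cf k (((m : ℕ) : ℤ) - R)) ∘ₗ (phiL φ ∘ₗ (LinearMap.proj i ∘ₗ coord))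
  have hfin : ∀ S : Submodule k E, (∀ z ∈ S, ∀ i, v (t ^ (R : ℤ) * b.repr z i) ≤ 1) →
      FR ((1 - onto A'') * onto S) := fun S hS => by
    refine FR.of_ker_le (L0 ∘ₗ onto S) fun z hz => ?_
    rw [LinearMap.mem_ker] at hz ⊢
    have hmem : onto S z ∈ A'' := (hA'' _).2 fun i => by
      set u := b.repr (onto S z) i with hu
      have hlow : ∀ m < -(R : ℤ), (φ u).coeff m = 0 := (vlow_iff hφ u _).2 (by
        rw [neg_neg, hval]; exact hS _ (onto_mem S z) i)
      have h0 : ∀ m < (N : ℤ), (φ u).coeff m = 0 := fun m hm => by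
        rcases lt_or_ge m (-(R : ℤ)) with h | h
        · exact hlow m h
        · obtain ⟨j, hj⟩ : ∃ j : ℕ, m = (j : ℤ) - R := ⟨(m + R).toNat, by omega⟩
          have := congrFun (congrFun hz i) ⟨j, by omega⟩
          rw [hj]
          simpa [L0, cf, phiL, hcoord] using this
      have h1 := (vlow_iff hφ u N).1 h0
      rw [map_mul, map_inv₀, map_pow, ht, ← exp_nsmul, inv_mul_le_iff₀ (zero_lt_iff.2 exp_ne_zero), mul_one]
      simpa using h1
    show onto S z - onto A'' (onto S z) = 0
    rw [onto_self A'' hmem, sub_self]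
  have hc : mK k y * mK k x' = mK k x' * mK k y := mK_comm y x'
  have keyB := vlocal_res hψ y x'
  -- coordinatewise residue
  let πh : End k (Fin n → F) := LinearMap.pi fun i => onto O ∘ₗ LinearMap.proj i
  let mat : E → Fin n → Fin n → F := fun u i j => Algebra.leftMulMatrix b u i j
  let μ : E → End k (Fin n → F) := fun u => LinearMap.pi fun i => ∑ j, mK k (mat u i j) ∘ₗ LinearMap.proj j
  have hμ : ∀ u z, μ u (coord z) = coord (u * z) := fun u z => funext fun i => by
    have h := congrFun (Algebra.leftMulMatrix_mulVec_repr b u z) i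
    simp only [μ, mat, LinearMap.pi_apply, LinearMap.sum_apply, LinearMap.comp_apply, LinearMap.proj_apply, mK_apply,
      hcoord]
    exact h
  have hxd : ∀ i j, mat x' i j = if i = j then x else 0 := fun i j => by
    show Algebra.leftMulMatrix b (algebraMap F E x) i j = _
    rw [AlgHom.commutes, Matrix.algebraMap_matrix_apply]; rfl
  have hadm : ∀ u, Adm πh (μ u) := fun u => by
    refine (trF_pi _ (fun i j => (1 - onto O) * mK k (mat u i j) * onto O) (fun a i => ?_) fun i j =>
      (vlocal_res hφ _ (mat u i j)).1).1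
    simp only [μ, πh, Module.End.mul_apply, LinearMap.sub_apply, Module.End.one_apply, LinearMap.pi_apply,
      LinearMap.sum_apply, LinearMap.comp_apply, LinearMap.proj_apply, Pi.sub_apply, map_sum, Finset.sum_sub_distrib]
  have hcs : ∀ a : Fin n → F, coord (b.equivFun.symm a) = a := fun a => b.equivFun.apply_symm_apply a
  have pull : ∀ p q : E, Adm (onto A') (mK k p) ∧ FR (C (onto A') (mK k p) (mK k q)) ∧
      res (onto A') (mK k p) (mK k q) = res πh (μ p) (μ q) := fun p q => by
    refine res_pullback coord b.equivFun.injective (LinearMap.ext fun a => funext fun i => onto_self O (onto_mem O (a i)))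
      (LinearMap.ext (hμ p)) (LinearMap.ext (hμ q))
      (LinearMap.ext fun a => by
        show μ p (μ q a) = μ q (μ p a)
        rw [← hcs a, hμ, hμ, hμ, hμ, mul_left_comm])
      (hadm p) (hadm q)
      (fun z => funext fun i => onto_self O (by
        show coord (onto A' z) i ∈ O
        rw [hcoord]; exact (hA' _).1 (onto_mem A' z) i))
      (fun z hz => onto_self A' ((hA' z).2 fun i => by
        rw [← hcoord, show coord z i = onto O (coord z i) from (congrFun hz i).symm]; exact onto_mem O _))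
      ⊥ (fun a ha => by
        rw [(Submodule.mem_bot k).1 ha]
        simp only [map_zero, and_self])
      (fun a => ⟨b.equivFun.symm a, by rw [hcs, sub_self]; exact zero_mem _⟩)
  obtain ⟨hf', -, hres'⟩ := pull y x'
  have hg' := (pull x' y).1
  have hon : ∀ S T : Submodule k E, S ≤ T → onto T * onto S = onto S := fun S T hST =>
    LinearMap.ext fun z => onto_self T (hST (onto_mem S z))
  have e1 := res_sublattice (onto_idem B) (hon A'' B hA''B) (onto_idem A'') (hfin B hBR) hc keyB.1 (vlocal_res hψ x' y).1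
  have e2 := res_sublattice (onto_idem A') (hon A'' A' hA''A') (onto_idem A'') (hfin A' fun z hz i => by
    rw [map_mul]
    exact mul_le_one' (by rw [map_zpow₀, ht, ← exp_zsmul, ← exp_zero, exp_le_exp]; simp) ((hA' z).1 hz i)) hc hf' hg'
  rw [← keyB.2.2, ← e1, e2, hres', res]
  obtain ⟨-, htr⟩ := trF_pi (C πh (μ y) (μ x')) (fun i j => C (onto O) (mK k (mat y i j)) (mK k x)) (fun a i => by
    simp only [C, μ, πh, Module.End.mul_apply, LinearMap.sub_apply, LinearMap.pi_apply, LinearMap.sum_apply,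
      LinearMap.comp_apply, LinearMap.proj_apply, Pi.sub_apply, hxd, mK_apply, ite_mul, zero_mul, apply_ite (onto O),
      map_zero, Finset.sum_ite_eq, Finset.mem_univ, if_true, map_sum, Finset.mul_sum, Finset.sum_sub_distrib]
    congr 1
    rw [Finset.sum_comm]
    simp only [Finset.sum_ite_eq, Finset.mem_univ, if_true])
    (fun i j => (vlocal_res hφ _ x).2.1)
  rw [htr, Algebra.trace_eq_matrix_trace b y, Matrix.trace, map_sum φ]
  have hTsum : ∀ (s : Finset (Fin n)) (a : Fin n → LaurentSeries k) (h : LaurentSeries k),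
      T k (∑ i ∈ s, a i) h = ∑ i ∈ s, T k (a i) h := fun s a h =>
    map_sum (AddMonoidHom.mk' (fun f => T k f h) fun a b => by simp only [T, add_mul, map_add]) a s
  rw [hTsum]
  exact Finset.sum_congr rfl fun i _ => (vlocal_res hφ _ x).2.2.symm

end Groth.Agent.FunFldLib.Tate
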