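import Groth.Agent.FunFldLib.Tate.Laurent

/-! Residues of `g ^ (n - 1) dg` and of `dg / g`. -/

set_option autoImplicit false

open LaurentSeries

namespace Groth.Agent.FunFldLib.Tate

open Module

variable {F : Type*} [Field F]

theorem res_pow (g : F⸨X⸩) (m : ℕ) : (g ^ m * LocRes.D F g).coeff (-1) = 0 := by
  have h : R F (g ^ m) g = T F (g ^ m) g := R_eq_T F (g ^ m) g
  rw [T, Algebra.trace_self_apply, LocRes.res_apply] at h
  rw [← h, R, res]
  set π := proj F F
  set a := π * M F g * π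
  have hpow : ∀ j : ℕ, ∃ e : End F F⸨X⸩, FR e ∧ π * M F (g ^ j) * π = π * a ^ j + e := by
    intro j
    induction j with
    | zero =>
      refine ⟨0, FR.zero, ?_⟩
      rw [pow_zero, pow_zero, mul_one, add_zero, show M F (1 : F⸨X⸩) = 1 from LinearMap.ext fun x => one_mul x, mul_one,
        proj_idem]
    | succ j ih =>
      obtain ⟨e, he, heq⟩ := ih
      refine ⟨e * a + π * M F (g ^ j) * ((1 - π) * M F g * π), (he.mul_right a).add ((adm F g).mul_left _), ?_⟩
      rw [pow_succ, M_mul, pow_succ, ← mul_assoc π (a ^ j), ← add_assoc, ← add_mul, ← heq]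
      simp only [a]
      rw [show π * M F (g ^ j) * π * (π * M F g * π) = π * M F (g ^ j) * (π * π) * M F g * π by noncomm_ring,
        show π * π = π from proj_idem F]
      simp only [sub_mul, one_mul, mul_sub, ← mul_assoc]
      abel
  obtain ⟨e, he, heq⟩ := hpow m
  have hπa : π * a = a := by simp only [a, ← mul_assoc]; rw [proj_idem]
  have haπ : a * π = a := by simp only [a]; rw [mul_assoc, proj_idem]
  have hcomm : (π * a ^ m) * a - a * (π * a ^ m) = 0 := by
    rw [mul_assoc, ← pow_succ, ← mul_assoc, haπ, ← pow_succ']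
    rcases m with - | m
    · simp [hπa]
    · rw [pow_succ' a (m + 1), ← mul_assoc, hπa, sub_self]
  have h2 := comm_perturb (a := π * a ^ m) (b := a) (e := e) (e' := 0) (by rw [hcomm]; exact FR.zero) he FR.zero
  rw [add_zero, ← heq, hcomm, trF_zero] at h2
  have hC : C π (M F (g ^ m)) (M F g) = π * M F (g ^ m) * π * a - a * (π * M F (g ^ m) * π) := by
    simp only [a]
    rw [C, show π * M F (g ^ m) * π * (π * M F g * π) = π * M F (g ^ m) * (π * π) * M F g * π by noncomm_ring,
      show π * M F g * π * (π * M F (g ^ m) * π) = π * M F g * (π * π) * M F (g ^ m) * π by noncomm_ring, proj_idem]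
  rw [hC]
  exact h2.2

theorem res_zpow (g : F⸨X⸩) (n : ℤ) (hn : n ≠ 0) : (g ^ (n - 1) * LocRes.D F g).coeff (-1) = 0 := by
  rcases eq_or_ne g 0 with rfl | hg
  · simp
  obtain ⟨m, rfl | rfl⟩ := Int.eq_nat_or_neg n
  · obtain ⟨j, rfl⟩ : ∃ j, m = j + 1 := ⟨m - 1, by omega⟩
    rw [show ((j + 1 : ℕ) : ℤ) - 1 = (j : ℤ) by omega, zpow_natCast]
    exact res_pow g j
  · obtain ⟨j, rfl⟩ : ∃ j, m = j + 1 := ⟨m - 1, by omega⟩
    have h := res_pow g⁻¹ j
    rw [Derivation.leibniz_inv, smul_eq_mul] at h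
    have e : g ^ (-((j + 1 : ℕ) : ℤ) - 1) * LocRes.D F g = -(g⁻¹ ^ j * (-g⁻¹ ^ 2 * LocRes.D F g)) := by
      rw [show -((j + 1 : ℕ) : ℤ) - 1 = -((j + 2 : ℕ) : ℤ) by push_cast; ring, zpow_neg, zpow_natCast, ← inv_pow]
      ring
    rw [e, HahnSeries.coeff_neg, h, neg_zero]

theorem res_dlog {g : F⸨X⸩} (hg : g ≠ 0) : (g⁻¹ * LocRes.D F g).coeff (-1) = (g.order : F) := by
  obtain ⟨n, h, h0, hlow, rfl⟩ : ∃ (n : ℤ) (h : F⸨X⸩), h.coeff 0 ≠ 0 ∧ (∀ m < (0 : ℤ), h.coeff m = 0) ∧
      g = HahnSeries.single n 1 * h := by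
    refine ⟨g.order, HahnSeries.single (-g.order) 1 * g, ?_, fun m hm => ?_, ?_⟩
    · rw [HahnSeries.coeff_single_mul, one_mul, sub_neg_eq_add, zero_add]; exact HahnSeries.coeff_order_eq_zero.not.2 hg
    · rw [HahnSeries.coeff_single_mul, one_mul, HahnSeries.coeff_eq_zero_of_lt_order (by omega)]
    · rw [← mul_assoc, HahnSeries.single_mul_single, add_neg_cancel, one_mul, HahnSeries.single_zero_one, one_mul]
  have hh : h ≠ 0 := fun e => h0 (by rw [e]; rfl)
  have hord : h.order = 0 := le_antisymm (HahnSeries.order_le_of_coeff_ne_zero h0)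
    (not_lt.1 fun hlt => hh (HahnSeries.coeff_order_eq_zero.1 (hlow _ hlt)))
  have hs : (HahnSeries.single n (1 : F) : F⸨X⸩) ≠ 0 := HahnSeries.single_ne_zero one_ne_zero
  rw [HahnSeries.order_mul hs hh, HahnSeries.order_single (one_ne_zero (α := F)), hord, add_zero, Derivation.leibniz,
    smul_eq_mul, smul_eq_mul]
  have e1 : (HahnSeries.single n (1 : F) * h)⁻¹ *
      (HahnSeries.single n 1 * LocRes.D F h + h * LocRes.D F (HahnSeries.single n 1)) =
      h⁻¹ * LocRes.D F h + (HahnSeries.single n (1 : F))⁻¹ * LocRes.D F (HahnSeries.single n 1) := by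
    field_simp
  have e2 : (HahnSeries.single n (1 : F))⁻¹ * LocRes.D F (HahnSeries.single n 1) =
      HahnSeries.single (-1) (n : F) := by
    have hD : LocRes.D F (HahnSeries.single n (1 : F)) = HahnSeries.single (n - 1) (n : F) := by
      refine HahnSeries.ext (funext fun m => ?_)
      rw [LocRes.D_coeff, HahnSeries.coeff_single, HahnSeries.coeff_single]
      rcases eq_or_ne m (n - 1) with rfl | hm
      · simp
      · rw [if_neg hm, if_neg (by omega), smul_zero]
    rw [hD, inv_mul_eq_iff_eq_mul₀ hs, HahnSeries.single_mul_single, one_mul]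
    congr 1
  rw [e1, e2, HahnSeries.coeff_add, HahnSeries.coeff_single_same]
  suffices (h⁻¹ * LocRes.D F h).coeff (-1) = 0 by rw [this, zero_add]
  have hinv : ∀ m < (0 : ℤ), h⁻¹.coeff m = 0 := fun m hm => HahnSeries.coeff_eq_zero_of_lt_order (by
    have he := HahnSeries.order_mul (x := h) (y := h⁻¹) hh (inv_ne_zero hh)
    rw [mul_inv_cancel₀ hh, HahnSeries.order_one, hord] at he
    omega)
  refine Laurent.coeff_mul_low hinv (B := 0) (fun m hm => ?_) (by norm_num)
  rw [LocRes.D_coeff]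
  rcases eq_or_ne m (-1) with rfl | hne
  · norm_num
  · rw [hlow _ (by omega), smul_zero]

end Groth.Agent.FunFldLib.Tate
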