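import Groth.Agent.FunFldLib.Tate.Place
import Groth.Agent.FunFldLib.RR
import Mathlib.LinearAlgebra.Basis.VectorSpace
import Mathlib.LinearAlgebra.Projection

/-! The residue theorem. -/

set_option autoImplicit false

open WithZero
open LocRes (IsExpansionAt)

namespace Groth.Agent.FunFldLib.Tate

open Module FunFld Groth.Agent.FunFldLib

variable {k K : Type*} [Field k] [Field K] [Algebra k K]

theorem int_almost (hK : IsFF0 k K) (x : K) : {P : Place k K | ¬ P.1 x ≤ 1}.Finite :=
  mem_adele.1 (range_diag_le_adele hK ⟨x, rfl⟩)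

/-- the residue of `u dv` vanishes where both are integral -/
theorem res_zero_of_int {P : Place k K} {f g : K} (hf : P.1 f ≤ 1) (hg : P.1 g ≤ 1) :
    C (oproj P) (mK k f) (mK k g) = 0 := by
  refine LinearMap.ext fun x => ?_
  have hint : ∀ u : K, P.1 u ≤ 1 → ∀ y : K, P.1 y ≤ 1 → oproj P (u * y) = u * y := fun u hu y hy =>
    oproj_self (by rw [map_mul]; exact mul_le_one' hu hy)
  have hp := oproj_le P x
  simp only [C, LinearMap.sub_apply, Module.End.mul_apply, LinearMap.zero_apply, mK_apply]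
  rw [hint g hg _ hp, hint f hf _ hp, hint f hf _ (by rw [map_mul]; exact mul_le_one' hg hp),
    hint g hg _ (by rw [map_mul]; exact mul_le_one' hf hp), mul_left_comm, sub_self]

variable {F : Place k K → Type*} [∀ P, Field (F P)] [∀ P, Algebra k (F P)] [∀ P, FiniteDimensional k (F P)]

theorem residue_theorem (hK : IsFunctionField k K) (φ : ∀ P, K →ₐ[k] LaurentSeries (F P))
    (hφ : ∀ P, IsExpansionAt P.1 (φ P)) (u v : K) :
    (Function.support fun P => LocRes.locRes (φ P) u v).Finite ∧ ∑ᶠ P, LocRes.locRes (φ P) u v = 0 := by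
  classical
  set S := ((int_almost hK.1 u).union (int_almost hK.1 v)).toFinset with hS
  have hint : ∀ P ∉ S, P.1 u ≤ 1 ∧ P.1 v ≤ 1 := fun P hP => by
    simp only [hS, Set.Finite.mem_toFinset, Set.mem_union, Set.mem_ofPred_eq, not_or, not_not] at hP
    exact hP
  have hsub : Function.support (fun P => LocRes.locRes (φ P) u v) ⊆ ↑S := fun P hP => by
    by_contra hPS
    apply hP
    show LocRes.locRes (φ P) u v = 0
    rw [← (local_res (hφ P) u v).2.2, res, res_zero_of_int (hint P hPS).1 (hint P hPS).2, trF_zero]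
  refine ⟨S.finite_toSet.subset hsub, ?_⟩
  rw [finsum_eq_sum_of_support_subset _ hsub]
  let V := adele k K
  let π : End k V :=
    { toFun := fun a => ⟨fun P => oproj P (a.1 P), AD_le_adele (0 : Divisor k K) (mem_AD.2 fun P => by
        rw [Finsupp.coe_zero, Pi.zero_apply, exp_zero]; exact oproj_le P _)⟩
      map_add' := fun a b => Subtype.ext (funext fun P => map_add (oproj P) _ _)
      map_smul' := fun c a => Subtype.ext (funext fun P => map_smul (oproj P) c _) }
  let μ : K → End k V := fun x =>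
    { toFun := fun a => ⟨x • a.1, mem_adele_smul hK x a.1 a.2⟩
      map_add' := fun a b => Subtype.ext (smul_add x _ _)
      map_smul' := fun c a => Subtype.ext (smul_comm x c a.1) }
  have hπμ : ∀ (x : K) (a : V) (P : Place k K), (μ x a).1 P = x * a.1 P := fun x a P => rfl
  have hππ : π * π = π := LinearMap.ext fun a => Subtype.ext (funext fun P => oproj_self (oproj_le P _))
  have hμc : μ u * μ v = μ v * μ u := LinearMap.ext fun a => Subtype.ext (funext fun P => mul_left_comm u v _)
  let ι : Place k K → (K →ₗ[k] V) := fun P =>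
    { toFun := fun z => ⟨Pi.single P z, mem_adele.2 ((Set.finite_singleton P).subset fun Q hQ => by
        by_contra hne
        exact hQ (by rw [Pi.single_eq_of_ne hne, map_zero]; exact zero_le'))⟩
      map_add' := fun a b => Subtype.ext (show (Pi.single P (a + b) : Place k K → K) = Pi.single P a + Pi.single P b from
        funext fun Q => by
          rcases eq_or_ne Q P with rfl | h
          · rw [Pi.single_eq_same, Pi.add_apply, Pi.single_eq_same, Pi.single_eq_same]
          · rw [Pi.single_eq_of_ne h, Pi.add_apply, Pi.single_eq_of_ne h, Pi.single_eq_of_ne h, add_zero])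
      map_smul' := fun c a => Subtype.ext (show (Pi.single P (c • a) : Place k K → K) = c • Pi.single P a from
        funext fun Q => by
          rcases eq_or_ne Q P with rfl | h
          · rw [Pi.single_eq_same, Pi.smul_apply, Pi.single_eq_same]
          · rw [Pi.single_eq_of_ne h, Pi.smul_apply, Pi.single_eq_of_ne h, smul_zero]) }
  let pr : Place k K → (V →ₗ[k] K) := fun P => LinearMap.proj P ∘ₗ V.subtype
  have hprι : ∀ P, pr P ∘ₗ ι P = LinearMap.id := fun P => LinearMap.ext fun z =>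
    show (Pi.single P z : Place k K → K) P = z by rw [Pi.single_eq_same]
  have hdecomp : ∀ (T : End k V) (t : ∀ P, End k K), (∀ a P, (T a).1 P = t P (a.1 P)) → ∀ S : Finset (Place k K),
      (∀ P ∉ S, t P = 0) → T = ∑ P ∈ S, ι P ∘ₗ (t P ∘ₗ pr P) := by
    intro T t hT S hS
    refine LinearMap.ext fun a => Subtype.ext (funext fun Q => ?_)
    rw [hT, LinearMap.sum_apply, AddSubmonoidClass.coe_finsetSum, Finset.sum_apply]
    show t Q (a.1 Q) = ∑ P ∈ S, Pi.single (M := fun _ : Place k K => K) P (t P (a.1 P)) Q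
    by_cases hQ : Q ∈ S
    · rw [Finset.sum_eq_single_of_mem Q hQ fun P _ hne => Pi.single_eq_of_ne (Ne.symm hne) _, Pi.single_eq_same]
    · rw [hS Q hQ, LinearMap.zero_apply]
      exact (Finset.sum_eq_zero fun P hP => Pi.single_eq_of_ne (fun h : Q = P => hQ (h ▸ hP)) _).symm
  have hCdec := hdecomp (C π (μ u) (μ v)) (fun P => C (oproj P) (mK k u) (mK k v)) (fun a P => rfl) S
    fun P hP => res_zero_of_int (hint P hP).1 (hint P hP).2
  have hCfr : ∀ P, FR (ι P ∘ₗ (C (oproj P) (mK k u) (mK k v) ∘ₗ pr P)) := fun P =>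
    ((local_res (hφ P) u v).2.1.comp_right _).comp_left _
  have hres : res π (μ u) (μ v) = ∑ P ∈ S, LocRes.locRes (φ P) u v := by
    rw [res, hCdec, trF_sum _ _ fun P _ => hCfr P]
    refine Finset.sum_congr rfl fun P _ => ?_
    rw [← (local_res (hφ P) u v).2.2, trF_comp_comm ((local_res (hφ P) u v).2.1.comp_right _) (ι P),
      LinearMap.comp_assoc, hprι, LinearMap.comp_id]
    rfl
  rw [← hres]
  have hadm : ∀ x : K, Adm π (μ x) := fun x => by
    unfold Adm
    rw [hdecomp ((1 - π) * μ x * π) (fun P => (1 - oproj P) * mK k x * oproj P) (fun a P => rfl)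
      (int_almost hK.1 x).toFinset fun P hP => LinearMap.ext fun z => by
        simp only [Set.Finite.mem_toFinset, Set.mem_ofPred_eq, not_not] at hP
        show x * oproj P z - oproj P (x * oproj P z) = 0
        rw [oproj_self (le_of_eq_of_le (map_mul P.1 x (oproj P z)) (mul_le_one' hP (oproj_le P z))), sub_self]]
    exact FR.sum fun P _ => ((local_res (hφ P) x x).1.comp_right _).comp_left _
  -- the global decomposition
  set A0 : Submodule k V := (AD (0 : Divisor k K)).comap V.subtype with hA0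
  set Kd : Submodule k V := (LinearMap.range (diag k K)).comap V.subtype with hKd
  have hmemA : ∀ a : V, a ∈ A0 ↔ ∀ P : Place k K, P.1 (a.1 P) ≤ 1 := fun a => by
    show a.1 ∈ AD (0 : Divisor k K) ↔ _
    rw [mem_AD]; simp
  have hL : FiniteDimensional k (FunFld.L (0 : Divisor k K)) := finite_L hK.1 0
  let dg : K →ₗ[k] V := LinearMap.codRestrict V (diag k K) fun x => range_diag_le_adele hK.1 ⟨x, rfl⟩
  let X : Submodule k V := (FunFld.L (0 : Divisor k K)).map dg
  obtain ⟨Z, hZ⟩ := Submodule.exists_isCompl (A0 ⊓ Kd)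
  set K' := Kd ⊓ Z with hK'
  obtain ⟨W, hW⟩ := Submodule.exists_isCompl (A0 ⊔ Kd)
  have hK'le : K' ≤ Kd := inf_le_left
  have hAK' : Disjoint A0 K' := by
    rw [disjoint_iff_inf_le]
    rintro x ⟨hx1, hx2, hx3⟩
    exact hZ.disjoint.le_bot (x := x) ⟨⟨hx1, hx2⟩, hx3⟩
  have hsup : A0 ⊔ K' = A0 ⊔ Kd := by
    refine le_antisymm (sup_le_sup_left hK'le _) (sup_le le_sup_left fun x hx => ?_)
    obtain ⟨y, hy, z, hz, he⟩ := Submodule.mem_sup.1 (hZ.sup_eq_top ▸ (Submodule.mem_top : x ∈ ⊤))
    refine he ▸ Submodule.add_mem_sup hy.1 ⟨?_, hz⟩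
    rw [eq_sub_of_add_eq' he]
    exact Submodule.sub_mem _ hx hy.2
  have hc1 : IsCompl A0 (K' ⊔ W) := by
    refine ⟨(disjoint_iff_inf_le.2 ?_), codisjoint_iff.2 (by rw [← sup_assoc, hsup, hW.sup_eq_top])⟩
    rintro x ⟨hx, hx'⟩
    obtain ⟨y, hy, z, hz, rfl⟩ := Submodule.mem_sup.1 hx'
    have hz0 : z = 0 := (Submodule.mem_bot k).1 (hW.disjoint.le_bot (x := z) ⟨by
      rw [show z = (y + z) - y by abel]
      exact Submodule.sub_mem _ (Submodule.mem_sup_left hx) (Submodule.mem_sup_right (hK'le hy)), hz⟩)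
    rw [hz0, add_zero] at hx ⊢
    exact hAK'.le_bot (x := y) ⟨hx, hy⟩
  set p : End k V := A0.subtype ∘ₗ A0.projectionOnto (K' ⊔ W) hc1 with hp
  set w : End k V := W.subtype ∘ₗ W.projectionOnto (A0 ⊔ Kd) hW.symm with hwdef
  have hpA : ∀ a, p a ∈ A0 := fun a => (A0.projectionOnto (K' ⊔ W) hc1 a).2
  have hpA' : ∀ a ∈ A0, p a = a := fun a ha => by
    rw [hp, LinearMap.comp_apply, Submodule.projectionOnto_apply_left hc1 ⟨a, ha⟩]; rfl
  have hp0 : ∀ a ∈ K' ⊔ W, p a = 0 := fun a ha => by
    rw [hp, LinearMap.comp_apply, (Submodule.projectionOnto_apply_eq_zero_iff hc1).2 ha]; rfl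
  have hw0 : ∀ a ∈ A0 ⊔ Kd, w a = 0 := fun a ha => by
    rw [hwdef, LinearMap.comp_apply, (Submodule.projectionOnto_apply_eq_zero_iff hW.symm).2 ha]; rfl
  have hwW : ∀ a ∈ W, w a = a := fun a ha => by
    rw [hwdef, LinearMap.comp_apply, Submodule.projectionOnto_apply_left hW.symm ⟨a, ha⟩]; rfl
  set q : End k V := 1 - p - w with hqdef
  have hqq : ∀ a, q a ∈ K' := fun a => by
    obtain ⟨b, hb, c, hc, rfl⟩ := Submodule.mem_sup.1 (hc1.sup_eq_top ▸ (Submodule.mem_top : a ∈ ⊤))
    obtain ⟨d, hd, e, he, rfl⟩ := Submodule.mem_sup.1 hc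
    have : q (b + (d + e)) = d := by
      show b + (d + e) - p (b + (d + e)) - w (b + (d + e)) = d
      rw [map_add p, hpA' b hb, hp0 _ hc, map_add w, map_add w, hw0 b (Submodule.mem_sup_left hb),
        hw0 d (Submodule.mem_sup_right (hK'le hd)), hwW e he]
      abel
    rw [this]; exact hd
  have hqid : ∀ a ∈ K', q a = a := fun a ha => by
    show a - p a - w a = a
    rw [hp0 a (Submodule.mem_sup_left ha), hw0 a (Submodule.mem_sup_right (hK'le ha)), sub_zero, sub_zero]
  have hfinW : FiniteDimensional k W := by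
    obtain ⟨-, h1, -⟩ := rel_adele hK (0 : Divisor k K)
    have : Module.Finite k (↥(adele k K) ⧸ ADK (0 : Divisor k K)) := h1
    have hle : ADK (0 : Divisor k K) ≤ A0 ⊔ Kd := by
      intro a ha
      obtain ⟨b, hb, c, hc, e⟩ := Submodule.mem_sup.1 (show a.1 ∈ AD (0 : Divisor k K) ⊔ LinearMap.range (diag k K) from ha)
      have hbV : b ∈ V := AD_le_adele 0 hb
      have hcV : c ∈ V := range_diag_le_adele hK.1 hc
      rw [show a = (⟨b, hbV⟩ : V) + ⟨c, hcV⟩ from Subtype.ext e.symm]
      exact Submodule.add_mem_sup hb hc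
    have hdis : Disjoint W (ADK (0 : Divisor k K)) := hW.disjoint.symm.mono_right hle
    refine Module.Finite.of_injective ((ADK (0 : Divisor k K)).mkQ ∘ₗ W.subtype) ?_
    refine (injective_iff_map_eq_zero _).2 fun a ha => Subtype.ext ?_
    exact (Submodule.mem_bot k).1 (hdis.le_bot (x := (a : V)) ⟨a.2, (Submodule.Quotient.mk_eq_zero _).1 ha⟩)
  have hwfr : FR w := FR.of_le (X := W) fun a => (W.projectionOnto (A0 ⊔ Kd) hW.symm a).2
  have hpp : p * p = p := LinearMap.ext fun a => hpA' _ (hpA a)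
  have h1 : π * p = p := LinearMap.ext fun a => Subtype.ext (funext fun P => oproj_self ((hmemA _).1 (hpA a) P))
  have h2 : p * π = π := LinearMap.ext fun a => hpA' _ ((hmemA _).2 fun P => oproj_le P _)
  obtain ⟨hpu, hpv, hresp⟩ := res_range h1 h2 hμc (hadm u) (hadm v)
  have hdgK : ∀ a ∈ Kd, ∃ x : K, dg x = a := fun a ha => by
    obtain ⟨x, hx⟩ := ha
    exact ⟨x, Subtype.ext hx⟩
  have hfK : ∀ x : K, ∀ a ∈ Kd, μ x a ∈ Kd := fun x a ha => by
    obtain ⟨y, rfl⟩ := hdgK a ha
    exact ⟨x * y, rfl⟩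
  rw [← hresp]
  refine res_eq_zero (q := q) (Kd := Kd) hpp (LinearMap.ext fun a => hqid _ (hqq a)) ?_ ?_ ?_ hμc hpu hpv (hfK u) (hfK v)
    (fun a => hK'le (hqq a)) (fun a ha => ?_) X (fun a ha => ?_)
  · exact LinearMap.ext fun a => hp0 _ (Submodule.mem_sup_left (hqq a))
  · exact LinearMap.ext fun a => by
      show p a - p (p a) - w (p a) = 0
      rw [hpA' _ (hpA a), hw0 _ (Submodule.mem_sup_left (hpA a)), sub_self, sub_zero]
  · rwa [show 1 - p - q = w by rw [hqdef]; abel]
  · show p a + (a - p a - w a) = a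
    rw [hw0 a (Submodule.mem_sup_right ha)]; abel
  · have hmemK : p a ∈ Kd := by
      have h : a - p a - w a ∈ Kd := hK'le (hqq a)
      rw [hw0 a (Submodule.mem_sup_right ha), sub_zero] at h
      have := Submodule.sub_mem _ ha h
      rwa [sub_sub_cancel] at this
    obtain ⟨y, hy⟩ := hdgK _ hmemK
    refine ⟨y, fun P => ?_, hy⟩
    have := (hmemA _).1 (hpA a) P
    rw [← hy] at this
    simpa using (show P.1 y ≤ 1 from this)

end Groth.Agent.FunFldLib.Tate
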