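import Mathlib.LinearAlgebra.Trace
import Mathlib.LinearAlgebra.FiniteDimensional.Lemmas
import Mathlib.Tactic.NoncommRing

/-! Traces of operators of finite rank and Tate's abstract residue. -/

set_option autoImplicit false

namespace Groth.Agent.FunFldLib.Tate

open Module

variable {k V W : Type*} [Field k] [AddCommGroup V] [Module k V] [AddCommGroup W] [Module k W]

/-- finite rank -/
def FR (T : V →ₗ[k] W) : Prop := FiniteDimensional k (LinearMap.range T)

theorem FR.of_le {T : V →ₗ[k] W} {X : Submodule k W} [FiniteDimensional k X] (h : ∀ x, T x ∈ X) : FR T :=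
  Submodule.finiteDimensional_of_le (S₂ := X) (LinearMap.range_le_iff_comap.2 (eq_top_iff.2 fun x _ => h x))

theorem FR.comp_left {U : Type*} [AddCommGroup U] [Module k U] {T : V →ₗ[k] W} (h : FR T) (S : W →ₗ[k] U) :
    FR (S ∘ₗ T) := by
  have : FiniteDimensional k (LinearMap.range T) := h
  exact FR.of_le (X := (LinearMap.range T).map S) fun x => ⟨T x, ⟨x, rfl⟩, rfl⟩

theorem FR.comp_right {U : Type*} [AddCommGroup U] [Module k U] {T : V →ₗ[k] W} (h : FR T) (S : U →ₗ[k] V) :
    FR (T ∘ₗ S) := by
  have : FiniteDimensional k (LinearMap.range T) := h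
  exact FR.of_le (X := LinearMap.range T) fun x => ⟨S x, rfl⟩

theorem FR.add {S T : V →ₗ[k] W} (hS : FR S) (hT : FR T) : FR (S + T) := by
  have : FiniteDimensional k (LinearMap.range S) := hS
  have : FiniteDimensional k (LinearMap.range T) := hT
  exact FR.of_le (X := LinearMap.range S ⊔ LinearMap.range T) fun x =>
    Submodule.add_mem_sup ⟨x, rfl⟩ ⟨x, rfl⟩

theorem FR.neg {T : V →ₗ[k] W} (h : FR T) : FR (-T) := by
  have : FiniteDimensional k (LinearMap.range T) := h
  exact FR.of_le (X := LinearMap.range T) fun x => Submodule.neg_mem _ ⟨x, rfl⟩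

theorem FR.sub {S T : V →ₗ[k] W} (hS : FR S) (hT : FR T) : FR (S - T) := sub_eq_add_neg S T ▸ hS.add hT.neg

theorem FR.zero : FR (0 : V →ₗ[k] W) := FR.of_le (X := (⊥ : Submodule k W)) fun _ => rfl

theorem FR.mul_left {T : End k V} (h : FR T) (S : End k V) : FR (S * T) := h.comp_left S

theorem FR.mul_right {T : End k V} (h : FR T) (S : End k V) : FR (T * S) := h.comp_right S

theorem FR.sum {ι : Type*} {s : Finset ι} {T : ι → V →ₗ[k] W} (h : ∀ i ∈ s, FR (T i)) : FR (∑ i ∈ s, T i) :=
  Finset.sum_induction _ _ (fun _ _ => FR.add) FR.zero h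

open scoped Classical in
/-- trace of a finite rank operator (zero otherwise) -/
noncomputable def trF (T : End k V) : k :=
  if FR T then LinearMap.trace k (LinearMap.range T) (T.rangeRestrict ∘ₗ (LinearMap.range T).subtype) else 0

theorem trF_sub {X : Submodule k V} [FiniteDimensional k X] (A : V →ₗ[k] X) :
    trF (X.subtype ∘ₗ A) = LinearMap.trace k X (A ∘ₗ X.subtype) := by
  set T := X.subtype ∘ₗ A with hT
  have hfr : FR T := FR.of_le (X := X) fun x => (A x).2
  have : FiniteDimensional k (LinearMap.range T) := hfr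
  have hle : LinearMap.range T ≤ X := LinearMap.range_le_iff_comap.2 (eq_top_iff.2 fun x _ => (A x).2)
  rw [trF, if_pos hfr, show A = (Submodule.inclusion hle) ∘ₗ T.rangeRestrict from LinearMap.ext fun x => rfl,
    LinearMap.comp_assoc]
  exact (LinearMap.trace_comp_comm' (Submodule.inclusion hle) (T.rangeRestrict ∘ₗ X.subtype)).symm ▸ rfl

/-- the trace may be computed on any finite dimensional space the operator factors through -/
theorem trF_factor {M : Type*} [AddCommGroup M] [Module k M] [FiniteDimensional k M] (A : V →ₗ[k] M) (B : M →ₗ[k] V) :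
    trF (B ∘ₗ A) = LinearMap.trace k M (A ∘ₗ B) := by
  have e : B ∘ₗ A = (LinearMap.range B).subtype ∘ₗ (B.rangeRestrict ∘ₗ A) := LinearMap.ext fun x => rfl
  rw [e, trF_sub, LinearMap.comp_assoc, LinearMap.trace_comp_comm', LinearMap.comp_assoc]
  rfl

theorem trF_comp_comm {T : V →ₗ[k] W} (hT : FR T) (S : W →ₗ[k] V) : trF (S ∘ₗ T) = trF (T ∘ₗ S) := by
  have : FiniteDimensional k (LinearMap.range T) := hT
  rw [show S ∘ₗ T = (S ∘ₗ (LinearMap.range T).subtype) ∘ₗ T.rangeRestrict from LinearMap.ext fun x => rfl, trF_factor,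
    show T ∘ₗ S = (LinearMap.range T).subtype ∘ₗ (T.rangeRestrict ∘ₗ S) from LinearMap.ext fun x => rfl, trF_factor,
    LinearMap.comp_assoc]

theorem trF_mul_comm {T : End k V} (hT : FR T) (S : End k V) : trF (S * T) = trF (T * S) := trF_comp_comm hT S

theorem trF_add {S T : End k V} (hS : FR S) (hT : FR T) : trF (S + T) = trF S + trF T := by
  have : FiniteDimensional k (LinearMap.range S) := hS
  have : FiniteDimensional k (LinearMap.range T) := hT
  set X := LinearMap.range S ⊔ LinearMap.range T
  have hSX : ∀ x, S x ∈ X := fun x => Submodule.mem_sup_left ⟨x, rfl⟩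
  have hTX : ∀ x, T x ∈ X := fun x => Submodule.mem_sup_right ⟨x, rfl⟩
  rw [show S = X.subtype ∘ₗ S.codRestrict X hSX from LinearMap.ext fun x => rfl,
    show T = X.subtype ∘ₗ T.codRestrict X hTX from LinearMap.ext fun x => rfl, ← LinearMap.comp_add,
    trF_sub, trF_sub, trF_sub, LinearMap.add_comp, map_add]

theorem trF_zero : trF (0 : End k V) = 0 := by
  have h := trF_add (FR.zero (k := k) (V := V) (W := V)) FR.zero
  rw [add_zero] at h
  simpa using h

theorem trF_neg {T : End k V} (hT : FR T) : trF (-T) = -trF T := by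
  have h := trF_add hT hT.neg
  rw [add_neg_cancel, trF_zero] at h
  exact eq_neg_of_add_eq_zero_right h.symm

theorem trF_sub' {S T : End k V} (hS : FR S) (hT : FR T) : trF (S - T) = trF S - trF T := by
  rw [sub_eq_add_neg, trF_add hS hT.neg, trF_neg hT, sub_eq_add_neg]

theorem trF_sum {ι : Type*} (s : Finset ι) (T : ι → End k V) (h : ∀ i ∈ s, FR (T i)) :
    trF (∑ i ∈ s, T i) = ∑ i ∈ s, trF (T i) := by
  classical
  induction s using Finset.induction_on with
  | empty => simp [trF_zero]
  | insert a s ha ih =>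
    rw [Finset.sum_insert ha, Finset.sum_insert ha,
      trF_add (h a (Finset.mem_insert_self a s)) (FR.sum fun i hi => h i (Finset.mem_insert_of_mem hi)),
      ih fun i hi => h i (Finset.mem_insert_of_mem hi)]

/-- Tate's commutator of the truncations of two operators -/
def C (π f g : End k V) : End k V := π * f * π * g * π - π * g * π * f * π

/-- Tate's residue of two operators relative to the projection `π` -/
noncomputable def res (π f g : End k V) : k := trF (C π f g)

/-- admissible operators for `π` -/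
def Adm (π f : End k V) : Prop := FR ((1 - π) * f * π)

theorem C_eq {π f g : End k V} (hc : f * g = g * f) :
    C π f g = π * g * ((1 - π) * f * π) - π * f * ((1 - π) * g * π) := by
  have h : π * g * ((1 - π) * f * π) - π * f * ((1 - π) * g * π) - C π f g =
      π * (g * f - f * g) * π := by rw [C]; noncomm_ring
  rw [hc, sub_self, mul_zero, zero_mul] at h
  exact (sub_eq_zero.1 h).symm

theorem FR_C {π f g : End k V} (hc : f * g = g * f) (hf : Adm π f) (hg : Adm π g) : FR (C π f g) := by
  rw [C_eq hc]
  exact (hf.mul_left _).sub (hg.mul_left _)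

theorem C_swap (π f g : End k V) : C π g f = -C π f g := (neg_sub _ _).symm

theorem comm_perturb {a b e e' : End k V} (hab : FR (a * b - b * a)) (he : FR e) (he' : FR e') :
    FR ((a + e) * (b + e') - (b + e') * (a + e)) ∧
      trF ((a + e) * (b + e') - (b + e') * (a + e)) = trF (a * b - b * a) := by
  have h1 : FR (e * b - b * e) := (he.mul_right b).sub (he.mul_left b)
  have h2 : FR (a * e' - e' * a) := (he'.mul_left a).sub (he'.mul_right a)
  have h3 : FR (e * e' - e' * e) := (he.mul_right e').sub (he.mul_left e')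
  rw [show (a + e) * (b + e') - (b + e') * (a + e) =
      (a * b - b * a) + ((e * b - b * e) + ((a * e' - e' * a) + (e * e' - e' * e))) by noncomm_ring]
  refine ⟨hab.add (h1.add (h2.add h3)), ?_⟩
  rw [trF_add hab (h1.add (h2.add h3)), trF_add h1 (h2.add h3), trF_add h2 h3,
    trF_sub' (he.mul_right b) (he.mul_left b), trF_mul_comm he b,
    trF_sub' (he'.mul_left a) (he'.mul_right a), trF_mul_comm he' a,
    trF_sub' (he.mul_right e') (he.mul_left e'), trF_mul_comm he e']
  ring

/-- finite rank changes of the truncations do not change the residue -/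
theorem res_perturb {π π' f g : End k V} (hπ : π * π = π) (hπ' : π' * π' = π')
    (hC : FR (C π f g)) (hf : FR (π' * f * π' - π * f * π)) (hg : FR (π' * g * π' - π * g * π)) :
    FR (C π' f g) ∧ res π' f g = res π f g := by
  have hab : ∀ (p : End k V), p * p = p →
      (p * f * p) * (p * g * p) - (p * g * p) * (p * f * p) = C p f g := fun p hp => by
    rw [C, show (p * f * p) * (p * g * p) = p * f * (p * p) * g * p by noncomm_ring,
      show (p * g * p) * (p * f * p) = p * g * (p * p) * f * p by noncomm_ring, hp]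
  have h := comm_perturb (a := π * f * π) (b := π * g * π) (by rw [hab π hπ]; exact hC) hf hg
  rw [add_sub_cancel, add_sub_cancel, hab π hπ, hab π' hπ'] at h
  exact h

/-- the residue only depends on the range of the projection -/
theorem res_range {π π' f g : End k V} (h1 : π * π' = π') (h2 : π' * π = π) (hc : f * g = g * f)
    (hf : Adm π f) (hg : Adm π g) : Adm π' f ∧ Adm π' g ∧ res π' f g = res π f g := by
  have hπ : π * π = π := by
    calc π * π = π * (π' * π) := by rw [h2]
      _ = (π * π') * π := (mul_assoc _ _ _).symm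
      _ = π := by rw [h1, h2]
  have hadm : ∀ f, Adm π f → Adm π' f := fun f hf => by
    have e : (1 - π') * f * π' = (1 - π') * ((1 - π) * f * π) * π' := by
      have h3 : (1 - π') * π = 0 := by rw [sub_mul, one_mul, h2, sub_self]
      calc (1 - π') * f * π' = ((1 - π') - (1 - π') * π) * f * π' := by rw [h3, sub_zero]
        _ = (1 - π') * (1 - π) * f * (π * π') := by rw [h1]; noncomm_ring
        _ = _ := by noncomm_ring
    unfold Adm
    rw [e]; exact (hf.mul_left _).mul_right _
  refine ⟨hadm f hf, hadm g hg, ?_⟩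
  have hC' : FR (C π' f g) := FR_C hc (hadm f hf) (hadm g hg)
  -- restrict to the common range
  have s1 : res π' f g = trF (C π' f g * π) := by
    have e0 : C π' f g = C π' f g * π * π' := by
      rw [mul_assoc, h1, C]
      have hπ' : π' * π' = π' := by
        calc π' * π' = π' * (π * π') := by rw [h1]
          _ = (π' * π) * π' := (mul_assoc _ _ _).symm
          _ = π' := by rw [h2, h1]
      simp only [sub_mul, mul_assoc, hπ']
    have e1 : π' * (C π' f g * π) = C π' f g * π := by
      have hπ' : π' * π' = π' := by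
        calc π' * π' = π' * (π * π') := by rw [h1]
          _ = (π' * π) * π' := (mul_assoc _ _ _).symm
          _ = π' := by rw [h2, h1]
      simp only [C, mul_sub, sub_mul, ← mul_assoc, hπ']
    calc res π' f g = trF (C π' f g * π * π') := by rw [res, ← e0]
      _ = trF (π' * (C π' f g * π)) := (trF_mul_comm (hC'.mul_right π) π').symm
      _ = _ := by rw [e1]
  set a := π * f * π
  set b := π * g * π
  have hab : a * b - b * a = C π f g := by
    rw [C, show a * b = π * f * (π * π) * g * π by simp only [a, b]; noncomm_ring,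
      show b * a = π * g * (π * π) * f * π by simp only [a, b]; noncomm_ring, hπ]
  have hd : ∀ f, Adm π f → FR (π' * f * π - π * f * π) := fun f hf => by
    have e : π' * f * π - π * f * π = π' * ((1 - π) * f * π) := by
      rw [show π' * ((1 - π) * f * π) = π' * f * π - (π' * π) * f * π by noncomm_ring, h2]
    rw [e]; exact hf.mul_left _
  have h := comm_perturb (a := a) (b := b) (by rw [hab]; exact FR_C hc hf hg) (hd f hf) (hd g hg)
  simp only [a, b, add_sub_cancel] at h
  rw [hab] at h
  rw [s1, res, ← h.2]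
  congr 1
  rw [C, show (π' * f * π) * (π' * g * π) = π' * f * (π * π') * g * π by noncomm_ring,
    show (π' * g * π) * (π' * f * π) = π' * g * (π * π') * f * π by noncomm_ring, h1, sub_mul]
  rw [show π' * f * π' * g * π' * π = π' * f * π' * g * (π' * π) by noncomm_ring,
    show π' * g * π' * f * π' * π = π' * g * π' * f * (π' * π) by noncomm_ring, h2]

/-- compare residues along a map with dense image -/
theorem res_transfer (ι : V →ₗ[k] W) {π f g : End k V} {π₂ f₂ g₂ : End k W}
    (hπ : π₂ ∘ₗ ι = ι ∘ₗ π) (hf : f₂ ∘ₗ ι = ι ∘ₗ f) (hg : g₂ ∘ₗ ι = ι ∘ₗ g) (U : Submodule k W)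
    (hU : ∀ u ∈ U, C π₂ f₂ g₂ u = 0) (hU' : ∀ x, ι x ∈ U → C π f g x = 0)
    (hdense : ∀ y, ∃ x, y - ι x ∈ U) (hfr : FR (C π f g)) :
    FR (C π₂ f₂ g₂) ∧ res π₂ f₂ g₂ = res π f g := by
  have hπx : ∀ x, π₂ (ι x) = ι (π x) := LinearMap.congr_fun hπ
  have hfx : ∀ x, f₂ (ι x) = ι (f x) := LinearMap.congr_fun hf
  have hgx : ∀ x, g₂ (ι x) = ι (g x) := LinearMap.congr_fun hg
  have hCι : ∀ x, C π₂ f₂ g₂ (ι x) = ι (C π f g x) := fun x => by
    simp only [C, LinearMap.sub_apply, Module.End.mul_apply, hπx, hfx, hgx, map_sub]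
  have hsurj : Function.Surjective (U.mkQ ∘ₗ ι) := fun q => by
    obtain ⟨y, rfl⟩ := Submodule.mkQ_surjective U q
    obtain ⟨x, hx⟩ := hdense y
    exact ⟨x, ((Submodule.Quotient.eq U).2 hx).symm⟩
  obtain ⟨ρ, hρ⟩ := LinearMap.exists_rightInverse_of_surjective _ (LinearMap.range_eq_top.2 hsurj)
  have hσ : ∀ y, y - ι (ρ (U.mkQ y)) ∈ U := fun y =>
    (Submodule.Quotient.eq U).1 (LinearMap.congr_fun hρ (U.mkQ y)).symm
  have e : C π₂ f₂ g₂ = ι ∘ₗ (C π f g ∘ₗ (ρ ∘ₗ U.mkQ)) := LinearMap.ext fun y => by
    show C π₂ f₂ g₂ y = ι (C π f g (ρ (U.mkQ y)))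
    rw [← hCι, ← sub_eq_zero, ← map_sub]
    exact hU _ (hσ y)
  have e2 : (C π f g ∘ₗ (ρ ∘ₗ U.mkQ)) ∘ₗ ι = C π f g := LinearMap.ext fun x => by
    show C π f g (ρ (U.mkQ (ι x))) = C π f g x
    refine (sub_eq_zero.1 ?_).symm
    rw [← map_sub]
    exact hU' _ (by rw [map_sub]; exact hσ (ι x))
  refine ⟨e ▸ (hfr.comp_right _).comp_left ι, ?_⟩
  rw [res, res, e, trF_comp_comm (hfr.comp_right _) ι, e2]

/-- the residue theorem in abstract form -/
theorem res_eq_zero {p q f g : End k V} {Kd : Submodule k V} (hp : p * p = p) (hq : q * q = q)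
    (hpq : p * q = 0) (hqp : q * p = 0) (hw : FR (1 - p - q)) (hc : f * g = g * f)
    (hf : Adm p f) (hg : Adm p g) (hfK : ∀ x ∈ Kd, f x ∈ Kd) (hgK : ∀ x ∈ Kd, g x ∈ Kd)
    (hqK : ∀ x, q x ∈ Kd) (hK : ∀ x ∈ Kd, p x + q x = x)
    (X : Submodule k V) [FiniteDimensional k X] (hX : ∀ x ∈ Kd, p x ∈ X) :
    res p f g = 0 := by
  obtain ⟨r, hr⟩ := LinearMap.exists_extend (p := Kd) (LinearMap.id : Kd →ₗ[k] Kd)
  let r' : End k V := Kd.subtype ∘ₗ r
  have hr' : ∀ x ∈ Kd, r' x = x := fun x hx => congrArg Subtype.val (LinearMap.congr_fun hr ⟨x, hx⟩)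
  have hπ0 : FR (p * r') := FR.of_le (X := X) fun x => hX _ (r x).2
  set q' := q + p * r' with hq'
  have hq'mem : ∀ x, q' x ∈ Kd := fun x => by
    show q x + p (r' x) ∈ Kd
    refine Submodule.add_mem _ (hqK x) ?_
    have h := hK (r' x) (r x).2
    rw [eq_sub_of_add_eq h]
    exact Submodule.sub_mem _ (r x).2 (hqK _)
  have hq'id : ∀ x ∈ Kd, q' x = x := fun x hx => by
    show q x + p (r' x) = x
    rw [hr' x hx, add_comm]; exact hK x hx
  have hq'2 : q' * q' = q' := LinearMap.ext fun x => hq'id _ (hq'mem x)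
  have habs : ∀ h : End k V, (∀ x ∈ Kd, h x ∈ Kd) → q' * h * q' = h * q' := fun h hh =>
    LinearMap.ext fun x => hq'id _ (hh _ (hq'mem x))
  have hC0 : C q' f g = 0 := by
    rw [C, habs f hfK, habs g hgK, mul_assoc (f * q') g q', mul_assoc f q' (g * q'), ← mul_assoc q' g q', habs g hgK,
      mul_assoc (g * q') f q', mul_assoc g q' (f * q'), ← mul_assoc q' f q', habs f hfK, ← mul_assoc, ← mul_assoc, hc,
      sub_self]
  have hdiff : ∀ h : End k V, FR (q * h * q - q' * h * q') := fun h => by
    rw [hq', show q * h * q - (q + p * r') * h * (q + p * r') =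
      -(p * r' * (h * q) + (q * h) * (p * r') + (p * r') * (h * (p * r'))) by noncomm_ring]
    exact (((hπ0.mul_right _).add (hπ0.mul_left _)).add (hπ0.mul_right _)).neg
  obtain ⟨hqfr, hq0⟩ := res_perturb (π := q') (π' := q) (f := f) (g := g) hq'2 hq (by rw [hC0]; exact FR.zero)
    (hdiff f) (hdiff g)
  rw [res, res, hC0, trF_zero] at hq0
  have hdec : ∀ h : End k V, Adm p h → (∀ x ∈ Kd, h x ∈ Kd) → FR (h - (p * h * p + q * h * q)) := fun h hh hhK => by
    have h1 : FR (p * h * q) := FR.of_le (X := X) fun x => hX _ (hhK _ (hqK x))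
    have h2 : FR (q * h * p) := by
      have e : q * h * p = q * ((1 - p) * h * p) := by
        rw [show q * ((1 - p) * h * p) = q * h * p - (q * p) * h * p by noncomm_ring, hqp, zero_mul, zero_mul, sub_zero]
      rw [e]; exact hh.mul_left _
    have e : h - (p * h * p + q * h * q) =
        (1 - p - q) * h + ((p + q) * h * (1 - p - q) + (p * h * q + q * h * p)) := by noncomm_ring
    rw [e]
    exact (hw.mul_right _).add ((hw.mul_left _).add (h1.add h2))
  have hpfr : FR (C p f g) := FR_C hc hf hg
  set a := p * f * p + q * f * q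
  set b := p * g * p + q * g * q
  have hab : a * b - b * a = C p f g + C q f g := by
    have : ∀ u v : End k V, (p * u * p + q * u * q) * (p * v * p + q * v * q) =
        p * u * p * v * p + q * u * q * v * q := fun u v => by
      rw [show (p * u * p + q * u * q) * (p * v * p + q * v * q) = p * u * (p * p) * v * p + p * u * (p * q) * v * q +
        (q * u * (q * p) * v * p + q * u * (q * q) * v * q) by noncomm_ring, hp, hq, hpq, hqp]
      simp
    rw [this, this, C, C]; abel
  have hfin := comm_perturb (a := a) (b := b) (by rw [hab]; exact hpfr.add hqfr) (hdec f hf hfK) (hdec g hg hgK)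
  rw [add_sub_cancel, add_sub_cancel, hab, hc, sub_self, trF_zero, trF_add hpfr hqfr, hq0, add_zero] at hfin
  exact hfin.2.symm

theorem res_swap {π f g : End k V} (h : FR (C π f g)) : res π g f = -res π f g := by
  rw [res, res, C_swap, trF_neg h]

theorem Adm.mul {π f g : End k V} (hπ : π * π = π) (hf : Adm π f) (hg : Adm π g) : Adm π (f * g) := by
  have e : (1 - π) * (f * g) * π =
      (1 - π) * f * π * (g * π) + (1 - π) * f * ((1 - π) * g * π) := by
    noncomm_ring
  unfold Adm
  rw [e]
  exact (hf.mul_right _).add (hg.mul_left _)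

theorem Adm.add {π f g : End k V} (hf : Adm π f) (hg : Adm π g) : Adm π (f + g) := by
  unfold Adm
  rw [mul_add, add_mul]
  exact FR.add hf hg

theorem res_add {π f g h : End k V} (hg : FR (C π f g)) (hh : FR (C π f h)) :
    res π f (g + h) = res π f g + res π f h := by
  rw [res, res, res, ← trF_add hg hh]
  congr 1
  simp only [C]; noncomm_ring

/-- the cocycle identity -/
theorem res_cocycle {π f g h : End k V} (hπ : π * π = π) (hfg : f * g = g * f) (hfh : f * h = h * f)
    (hgh : g * h = h * g) (hf : Adm π f) (hg : Adm π g) (hh : Adm π h) :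
    res π f (g * h) = res π (f * g) h + res π (f * h) g := by
  set a := π * f * π with ha
  set b := π * g * π with hb
  set c := π * h * π with hc'
  have hππ : ∀ u v : End k V, (π * u * π) * (π * v * π) = π * u * π * v * π := fun u v => by
    rw [show (π * u * π) * (π * v * π) = π * u * (π * π) * v * π by noncomm_ring, hπ]
  have hC : ∀ u v : End k V, C π u v = (π * u * π) * (π * v * π) - (π * v * π) * (π * u * π) := fun u v => by
    rw [hππ, hππ, C]
  have hab : FR (a * b - b * a) := by rw [ha, hb, ← hC]; exact FR_C hfg hf hg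
  have hac : FR (a * c - c * a) := by rw [ha, hc', ← hC]; exact FR_C hfh hf hh
  have hbc : FR (b * c - c * b) := by rw [hb, hc', ← hC]; exact FR_C hgh hg hh
  have hE : ∀ u v : End k V, Adm π v → FR (π * (u * v) * π - (π * u * π) * (π * v * π)) := fun u v hv => by
    have e : π * (u * v) * π - π * u * π * v * π = π * u * ((1 - π) * v * π) := by noncomm_ring
    rw [hππ, e]; exact hv.mul_left _
  have k1 := comm_perturb (a := a) (b := b * c) (e := 0) (e' := π * (g * h) * π - b * c)
    (by rw [show a * (b * c) - b * c * a = (a * b - b * a) * c + b * (a * c - c * a) by noncomm_ring]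
        exact (hab.mul_right c).add (hac.mul_left b)) FR.zero (hE g h hh)
  rw [add_zero, add_sub_cancel, ← hC] at k1
  have k2 := comm_perturb (a := a * b) (b := c) (e := π * (f * g) * π - a * b) (e' := 0)
    (by rw [show a * b * c - c * (a * b) = a * (b * c - c * b) + (a * c - c * a) * b by noncomm_ring]
        exact (hbc.mul_left a).add (hac.mul_right b)) (hE f g hg) FR.zero
  rw [add_zero, add_sub_cancel, ← hC] at k2
  have k3 := comm_perturb (a := a * c) (b := b) (e := π * (f * h) * π - a * c) (e' := 0)
    (by rw [show a * c * b - b * (a * c) = a * -(b * c - c * b) + (a * b - b * a) * c by noncomm_ring]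
        exact (hbc.neg.mul_left a).add (hab.mul_right c)) (hE f h hh) FR.zero
  rw [add_zero, add_sub_cancel, ← hC] at k3
  rw [res, res, res, k1.2, k2.2, k3.2,
    show a * (b * c) - b * c * a = (a * b - b * a) * c + b * (a * c - c * a) by noncomm_ring,
    show a * b * c - c * (a * b) = a * (b * c - c * b) + (a * c - c * a) * b by noncomm_ring,
    show a * c * b - b * (a * c) = a * -(b * c - c * b) + (a * b - b * a) * c by noncomm_ring,
    trF_add (hab.mul_right c) (hac.mul_left b), trF_add (hbc.mul_left a) (hac.mul_right b),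
    trF_add (hbc.neg.mul_left a) (hab.mul_right c), trF_mul_comm hac b, mul_neg, trF_neg (hbc.mul_left a)]
  ring

/-- the commutator vanishes where all the products stay in the lattice -/
theorem C_apply_eq_zero {π f g : End k V} (hc : f * g = g * f) {u : V} (h0 : π u = u) (hf : π (f u) = f u)
    (hg : π (g u) = g u) (hfg : π (f (g u)) = f (g u)) : C π f g u = 0 := by
  have hc' : g (f u) = f (g u) := (LinearMap.congr_fun hc u).symm
  simp only [C, LinearMap.sub_apply, Module.End.mul_apply, h0, hf, hg, hfg, hc', sub_self]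

end Groth.Agent.FunFldLib.Tate
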