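import Groth.Prelude.Def_LocRes
import Groth.Agent.FunFldLib.Tate.Trace
import Groth.Agent.FunFldLib.Hasse.Laurent
import Mathlib.RingTheory.Trace.Basic

/-! Tate's residue on a field of Laurent series. -/

set_option autoImplicit false

open LaurentSeries

namespace Groth.Agent.FunFldLib.Tate

open Module

variable (k : Type*) {F : Type*} [Field k] [Field F] [Algebra k F]

/-- projection onto the power series -/
noncomputable def proj (F : Type*) [Field F] [Algebra k F] : End k F⸨X⸩ :=
  1 - HahnSeries.truncLTLinearMap k (V := F) (0 : ℤ)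

theorem smul_eq (c : k) (y : F⸨X⸩) : c • y = HahnSeries.C (algebraMap k F c) * y := by
  rw [HahnSeries.C_mul_eq_smul, algebraMap_smul]

/-- multiplication -/
noncomputable def M (f : F⸨X⸩) : End k F⸨X⸩ where
  toFun x := f * x
  map_add' := mul_add f
  map_smul' c x := by rw [RingHom.id_apply, smul_eq, smul_eq, mul_left_comm]

theorem M_apply (f x : F⸨X⸩) : M k f x = f * x := rfl

theorem M_mul (f g : F⸨X⸩) : M k (f * g) = M k f * M k g := LinearMap.ext fun x => mul_assoc f g x

theorem M_comm (f g : F⸨X⸩) : M k f * M k g = M k g * M k f := by rw [← M_mul, ← M_mul, mul_comm]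

theorem M_add (f g : F⸨X⸩) : M k (f + g) = M k f + M k g := LinearMap.ext fun x => add_mul f g x

theorem proj_coeff (x : F⸨X⸩) (m : ℤ) : (proj k F x).coeff m = if m < 0 then 0 else x.coeff m := by
  simp only [proj, LinearMap.sub_apply, Module.End.one_apply, HahnSeries.coe_truncLTLinearMap,
    HahnSeries.coeff_sub, HahnSeries.coeff_truncLT]
  split_ifs <;> simp

theorem compl_coeff (x : F⸨X⸩) (m : ℤ) : ((1 - proj k F) x).coeff m = if m < 0 then x.coeff m else 0 := by
  rw [LinearMap.sub_apply, Module.End.one_apply, HahnSeries.coeff_sub, proj_coeff]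
  split_ifs <;> simp

theorem proj_eq_self {x : F⸨X⸩} (h : ∀ m < (0 : ℤ), x.coeff m = 0) : proj k F x = x :=
  HahnSeries.ext (funext fun m => by rw [proj_coeff]; split_ifs with hm; exacts [(h m hm).symm, rfl])

theorem proj_low (x : F⸨X⸩) (m : ℤ) (hm : m < 0) : (proj k F x).coeff m = 0 := by rw [proj_coeff, if_pos hm]

theorem proj_idem : proj k F * proj k F = proj k F := LinearMap.ext fun x => proj_eq_self k (proj_low k x)

/-- the finite band of polar terms -/
noncomputable def band (S : Finset ℤ) : (S → F) →ₗ[k] F⸨X⸩ where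
  toFun y := ∑ m : S, HahnSeries.single (m : ℤ) (y m)
  map_add' y z := by simp [Finset.sum_add_distrib]
  map_smul' c y := by
    rw [RingHom.id_apply, Finset.smul_sum]
    exact Finset.sum_congr rfl fun m _ => (HahnSeries.ext (funext fun i => by
      by_cases h : i = (m : ℤ) <;> simp [HahnSeries.coeff_single, h]))

theorem mem_band {S : Finset ℤ} {z : F⸨X⸩} (h : ∀ m ∉ S, z.coeff m = 0) : z ∈ LinearMap.range (band k (F := F) S) := by
  classical
  refine ⟨fun m => z.coeff m, HahnSeries.ext (funext fun i => ?_)⟩
  show (∑ m : S, HahnSeries.single (m : ℤ) (z.coeff m)).coeff i = _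
  rw [HahnSeries.coeff_sum]
  by_cases hi : i ∈ S
  · rw [Finset.sum_eq_single (⟨i, hi⟩ : S) (fun b _ hb => HahnSeries.coeff_single_of_ne fun e => hb (Subtype.ext e.symm))
      (fun hne => absurd (Finset.mem_univ _) hne), HahnSeries.coeff_single_same]
  · rw [h i hi]
    exact Finset.sum_eq_zero fun b _ => HahnSeries.coeff_single_of_ne fun e : i = (b : ℤ) => hi (e ▸ b.2)

theorem band_range_coeff {S : Finset ℤ} {z : F⸨X⸩} (hz : z ∈ LinearMap.range (band k (F := F) S)) {m : ℤ} (hm : m ∉ S) :
    z.coeff m = 0 := by
  classical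
  obtain ⟨y, rfl⟩ := hz
  show (∑ m : S, HahnSeries.single (m : ℤ) (y m)).coeff m = 0
  rw [HahnSeries.coeff_sum]
  exact Finset.sum_eq_zero fun b _ => HahnSeries.coeff_single_of_ne fun e : m = (b : ℤ) => hm (e ▸ b.2)

theorem compl_mul_proj_mem (f x : F⸨X⸩) :
    ((1 - proj k F) * M k f * proj k F) x ∈ LinearMap.range (band k (F := F) (Finset.Ico f.order 0)) := by
  refine mem_band k fun m hm => ?_
  rw [Module.End.mul_apply, Module.End.mul_apply, compl_coeff, M_apply]
  split_ifs with h
  · exact Laurent.coeff_mul_low (A := f.order) (B := 0) (fun j hj => HahnSeries.coeff_eq_zero_of_lt_order hj)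
      (proj_low k x) (by rw [Finset.mem_Ico] at hm; omega)
  · rfl

variable [FiniteDimensional k F]

theorem adm (f : F⸨X⸩) : Adm (proj k F) (M k f) :=
  FR.of_le (X := LinearMap.range (band k (F := F) (Finset.Ico f.order 0))) (compl_mul_proj_mem k f)

theorem FR_CM (f g : F⸨X⸩) : FR (C (proj k F) (M k f) (M k g)) := FR_C (M_comm k f g) (adm k f) (adm k g)

/-- Tate's residue of `f dg` -/
noncomputable def R (f g : F⸨X⸩) : k := res (proj k F) (M k f) (M k g)

/-- the residue read from coefficients -/
noncomputable def T (f g : F⸨X⸩) : k := Algebra.trace k F (LocRes.res F (f * LocRes.D F g))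

theorem R_add (f g h : F⸨X⸩) : R k f (g + h) = R k f g + R k f h := by
  rw [R, R, R, M_add, res_add (FR_CM k f g) (FR_CM k f h)]

theorem R_cocycle (f g h : F⸨X⸩) : R k f (g * h) = R k (f * g) h + R k (f * h) g := by
  rw [R, R, R, M_mul, M_mul, M_mul]
  exact res_cocycle (proj_idem k) (M_comm k f g) (M_comm k f h) (M_comm k g h) (adm k f) (adm k g) (adm k h)

theorem R_swap (f g : F⸨X⸩) : R k g f = -R k f g := res_swap (FR_CM k f g)

omit [FiniteDimensional k F] in
theorem compl_M_proj {f : F⸨X⸩} (hf : ∀ j < (0 : ℤ), f.coeff j = 0) :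
    (1 - proj k F) * M k f * proj k F = 0 := LinearMap.ext fun x => by
  show (1 - proj k F) (f * proj k F x) = 0
  rw [LinearMap.sub_apply, Module.End.one_apply, proj_eq_self k
    (fun m hm => Laurent.coeff_mul_low hf (proj_low k x) (by omega)), sub_self]

omit [FiniteDimensional k F] in
theorem proj_M_const (c : F) :
    proj k F * M k (HahnSeries.single 0 c) = M k (HahnSeries.single 0 c) * proj k F :=
  LinearMap.ext fun x => HahnSeries.ext (funext fun m => by
    rw [Module.End.mul_apply, Module.End.mul_apply, proj_coeff, M_apply, M_apply, HahnSeries.coeff_single_mul,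
      HahnSeries.coeff_single_mul, sub_zero, proj_coeff]
    split_ifs <;> simp)

theorem R_const (f : F⸨X⸩) (c : F) : R k f (HahnSeries.single 0 c) = 0 := by
  have h1 : proj k F * M k (HahnSeries.single 0 c) * (1 - proj k F) = 0 := by
    rw [proj_M_const, mul_assoc, mul_sub, mul_one, proj_idem, sub_self, mul_zero]
  have h2 : (1 - proj k F) * M k (HahnSeries.single 0 c) * proj k F = 0 := by
    rw [sub_mul, one_mul, sub_mul, proj_M_const, mul_assoc, proj_idem, sub_self]
  rw [R, res, C_eq (M_comm k _ _), h2, mul_zero, sub_zero,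
    show proj k F * M k (HahnSeries.single 0 c) * ((1 - proj k F) * M k f * proj k F) =
      proj k F * M k (HahnSeries.single 0 c) * (1 - proj k F) * (M k f * proj k F) by noncomm_ring, h1, zero_mul,
    trF_zero]

/-- coefficient of `X⁻¹` as a linear map -/
noncomputable def cf (m : ℤ) : F⸨X⸩ →ₗ[k] F where
  toFun z := z.coeff m
  map_add' _ _ := HahnSeries.coeff_add ..
  map_smul' _ _ := HahnSeries.coeff_smul ..

/-- constants as a linear map -/
noncomputable def cst : F →ₗ[k] F⸨X⸩ where
  toFun c := HahnSeries.single 0 c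
  map_add' a b := HahnSeries.ext (funext fun i => by
    by_cases h : i = 0 <;> simp [h])
  map_smul' r a := HahnSeries.ext (funext fun i => by
    by_cases h : i = 0 <;> simp [HahnSeries.coeff_single, h])

theorem R_X (f : F⸨X⸩) :
    R k f (HahnSeries.single 1 1) = Algebra.trace k F (f.coeff (-1)) := by
  have hX : (1 - proj k F) * M k (HahnSeries.single (1 : ℤ) (1 : F)) * proj k F = 0 :=
    compl_M_proj k fun j hj => HahnSeries.coeff_single_of_ne (by omega)
  rw [R, res, C_eq (M_comm k _ _), hX, mul_zero, sub_zero]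
  have e : proj k F * M k (HahnSeries.single (1 : ℤ) (1 : F)) * ((1 - proj k F) * M k f * proj k F) =
      (cst k) ∘ₗ (cf k (-1) ∘ₗ (M k f * proj k F)) := by
    refine LinearMap.ext fun x => HahnSeries.ext (funext fun m => ?_)
    simp only [LinearMap.comp_apply, cst, cf, LinearMap.coe_mk, AddHom.coe_mk, Module.End.mul_apply, M_apply,
      proj_coeff, HahnSeries.coeff_single_mul, compl_coeff, HahnSeries.coeff_single]
    rcases lt_trichotomy m 0 with h | rfl | h
    · simp [h, h.ne]
    · simp
    · simp [not_lt.2 h.le, h.ne', show ¬ m - 1 < 0 by omega]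
  rw [e, trF_factor, Algebra.trace_apply]
  congr 1
  refine LinearMap.ext fun c => ?_
  show (f * proj k F (HahnSeries.single 0 c)).coeff (-1) = f.coeff (-1) * c
  rw [proj_eq_self k (fun m hm => HahnSeries.coeff_single_of_ne (by omega)), mul_comm f,
    HahnSeries.coeff_single_mul, sub_zero, mul_comm]

theorem R_small {f g : F⸨X⸩} {N B : ℤ} (hB : B ≤ 0) (hf : ∀ j < N, f.coeff j = 0) (hg : ∀ j < B, g.coeff j = 0)
    (hN : 0 ≤ N + 2 * B) : R k f g = 0 := by
  have hf0 : ∀ j < (0 : ℤ), f.coeff j = 0 := fun j hj => hf j (by omega)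
  rw [R, res, C_eq (M_comm k _ _), compl_M_proj k hf0, mul_zero, zero_sub,
    trF_neg (FR.mul_left (adm k g) _), neg_eq_zero]
  set E := (1 - proj k F) * M k g * proj k F with hE
  set S := Finset.Ico B 0
  have hmem : ∀ x, E x ∈ LinearMap.range (band k (F := F) S) := fun x => by
    refine mem_band k fun m hm => ?_
    rw [hE, Module.End.mul_apply, Module.End.mul_apply, compl_coeff, M_apply]
    split_ifs with h
    · exact Laurent.coeff_mul_low (A := B) (B := 0) hg (proj_low k x) (by rw [Finset.mem_Ico] at hm; omega)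
    · rfl
  let A := E.codRestrict _ hmem
  have e : proj k F * M k f * E =
      ((proj k F * M k f) ∘ₗ (LinearMap.range (band k (F := F) S)).subtype) ∘ₗ A := LinearMap.ext fun x => rfl
  rw [e, trF_factor]
  have h0 : A ∘ₗ ((proj k F * M k f) ∘ₗ (LinearMap.range (band k (F := F) S)).subtype) = 0 := by
    refine LinearMap.ext fun z => Subtype.ext ?_
    show E (proj k F (f * (z : F⸨X⸩))) = 0
    have hz : ∀ m < N + B, (f * (z : F⸨X⸩)).coeff m = 0 := fun m hm =>
      Laurent.coeff_mul_low hf (fun j hj => band_range_coeff k z.2 (by rw [Finset.mem_Ico]; omega)) hm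
    rw [hE, Module.End.mul_apply, Module.End.mul_apply, M_apply]
    have hfz : proj k F (f * (z : F⸨X⸩)) = f * z := proj_eq_self k fun m hm => hz m (by omega)
    rw [hfz, hfz, LinearMap.sub_apply, Module.End.one_apply,
      proj_eq_self k (fun m hm => Laurent.coeff_mul_low hg hz (by omega)), sub_self]
  rw [h0, map_zero]

omit [FiniteDimensional k F] in
theorem T_add (f g h : F⸨X⸩) : T k f (g + h) = T k f g + T k f h := by
  simp only [T, map_add, mul_add]

omit [FiniteDimensional k F] in
theorem T_mul (f g h : F⸨X⸩) : T k f (g * h) = T k (f * g) h + T k (f * h) g := by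
  simp only [T, Derivation.leibniz, smul_eq_mul, mul_add, map_add, mul_assoc]

omit [FiniteDimensional k F] in
theorem T_const (f : F⸨X⸩) (c : F) : T k f (HahnSeries.single 0 c) = 0 := by
  rw [T, ← HahnSeries.C_apply, LocRes.D_apply, LocRes.derivative_C, mul_zero, map_zero, map_zero]

/-- Tate's residue is the residue -/
theorem R_eq_T (f g : F⸨X⸩) : R k f g = T k f g := by
  classical
  let G : F⸨X⸩ → Prop := fun g => ∀ f, R k f g = T k f g
  have hadd : ∀ a b, G a → G b → G (a + b) := fun a b ha hb f => by rw [R_add, T_add, ha, hb]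
  have hmul : ∀ a b, G a → G b → G (a * b) := fun a b ha hb f => by rw [R_cocycle, T_mul, ha, hb]
  have hC : ∀ c : F, G (HahnSeries.single 0 c) := fun c f => by rw [R_const, T_const]
  have hX : G (HahnSeries.single 1 1) := fun f => by
    rw [R_X, T]
    congr 1
    have : LocRes.D F (HahnSeries.single (1 : ℤ) (1 : F)) = 1 := by
      rw [← HahnSeries.single_zero_one]
      refine HahnSeries.ext (funext fun m => ?_)
      rw [LocRes.D_coeff, HahnSeries.coeff_single, HahnSeries.coeff_single]
      rcases eq_or_ne m 0 with rfl | h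
      · simp
      · rw [if_neg (by omega), if_neg h, smul_zero]
    rw [this, mul_one]; rfl
  have hXi : G (HahnSeries.single (-1) 1) := fun f => by
    have e : (HahnSeries.single (1 : ℤ) (1 : F)) * HahnSeries.single (-1 : ℤ) (1 : F) = HahnSeries.single 0 1 := by
      rw [HahnSeries.single_mul_single]; norm_num
    have key : ∀ f : F⸨X⸩, R k (f * HahnSeries.single 1 1) (HahnSeries.single (-1) 1) =
        T k (f * HahnSeries.single 1 1) (HahnSeries.single (-1) 1) := fun f => by
      have h1 := R_cocycle k f (HahnSeries.single 1 1) (HahnSeries.single (-1) 1)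
      have h2 := T_mul k f (HahnSeries.single 1 1) (HahnSeries.single (-1) 1)
      rw [e, R_const] at h1
      rw [e, T_const] at h2
      rw [hX] at h1
      exact add_right_cancel (h1.symm.trans h2)
    have := key (f * HahnSeries.single (-1) 1)
    rwa [mul_assoc, mul_comm (HahnSeries.single (-1 : ℤ) (1 : F)), e, HahnSeries.single_zero_one, mul_one] at this
  have hmono : ∀ (i : ℤ) (c : F), G (HahnSeries.single i c) := by
    have hpow : ∀ i : ℤ, G (HahnSeries.single i 1) := fun i => by
      induction i with
      | zero => exact hC 1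
      | succ n ih =>
        rw [show (HahnSeries.single ((n : ℤ) + 1) (1 : F)) = HahnSeries.single (n : ℤ) 1 * HahnSeries.single 1 1 by
          rw [HahnSeries.single_mul_single, mul_one]]
        exact hmul _ _ ih hX
      | pred n ih =>
        rw [show (HahnSeries.single (-(n : ℤ) - 1) (1 : F)) = HahnSeries.single (-(n : ℤ)) 1 * HahnSeries.single (-1) 1 by
          rw [HahnSeries.single_mul_single, mul_one]; rfl]
        exact hmul _ _ ih hXi
    intro i c
    rw [show (HahnSeries.single i c : F⸨X⸩) = HahnSeries.single 0 c * HahnSeries.single i 1 by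
      rw [HahnSeries.single_mul_single, zero_add, mul_one]]
    exact hmul _ _ (hC c) (hpow i)
  set B := min f.order 0
  set N := max (-2 * B) (1 - B)
  have hf : ∀ j < B, f.coeff j = 0 := fun j hj => HahnSeries.coeff_eq_zero_of_lt_order (by omega)
  set P : F⸨X⸩ := ∑ a ∈ Finset.Ico g.order N, HahnSeries.single a (g.coeff a) with hP
  have htail : ∀ j < N, (g - P).coeff j = 0 := by
    intro j hj
    rw [HahnSeries.coeff_sub, hP, HahnSeries.coeff_sum]
    simp only [HahnSeries.coeff_single]
    rw [sub_eq_zero]
    by_cases h : j ∈ Finset.Ico g.order N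
    · exact ((Finset.sum_eq_single_of_mem j h fun b _ hb => if_neg (Ne.symm hb)).trans (if_pos rfl)).symm
    · refine Eq.trans ?_ (Finset.sum_eq_zero fun b hb => if_neg fun e : j = b => h (by rw [e]; exact hb)).symm
      simp only [Finset.mem_Ico, hj, and_true, not_le] at h
      exact HahnSeries.coeff_eq_zero_of_lt_order h
  have hGP : G P := Finset.sum_induction _ G hadd (by simpa using hC 0) fun a _ => hmono a _
  rw [show g = (g - P) + P by ring, R_add, T_add, hGP f]
  congr 1
  rw [R_swap, R_small k (show B ≤ 0 by omega) htail hf (by omega), neg_zero, T]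
  have hD : ∀ j < N - 1, (LocRes.D F (g - P)).coeff j = 0 := fun j hj => by
    rw [LocRes.D_coeff, htail _ (by omega), smul_zero]
  rw [LocRes.res_apply, Laurent.coeff_mul_low hf hD (by omega), map_zero]

end Groth.Agent.FunFldLib.Tate
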