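import Groth.Agent.FunFldLib.Tate.Laurent
import Groth.Prelude.Def_W4bk4goldsch23FF

/-! Tate's residue at a place with an expansion is the local residue. -/

set_option autoImplicit false

open LaurentSeries WithZero
open LocRes (IsExpansionAt)

namespace Groth.Agent.FunFldLib.Tate

open Module

variable {k K : Type*} [Field k] [Field K] [Algebra k K]

theorem FR.of_comp_injective {V W U : Type*} [AddCommGroup V] [Module k V] [AddCommGroup W] [Module k W]
    [AddCommGroup U] [Module k U] {T : V →ₗ[k] W} {ι : W →ₗ[k] U} (hι : Function.Injective ι) (h : FR (ι ∘ₗ T)) : FR T := by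
  have : FiniteDimensional k ((LinearMap.range T).map ι) := by
    have h' : FiniteDimensional k (LinearMap.range (ι ∘ₗ T)) := h
    rwa [LinearMap.range_comp] at h'
  exact Module.Finite.equiv (Submodule.equivMapOfInjective ι hι (LinearMap.range T)).symm

/-- a projection onto a submodule -/
noncomputable def onto {V : Type*} [AddCommGroup V] [Module k V] (S : Submodule k V) : End k V :=
  S.subtype ∘ₗ Classical.choose (LinearMap.exists_extend (p := S) (LinearMap.id : S →ₗ[k] S))

theorem onto_mem {V : Type*} [AddCommGroup V] [Module k V] (S : Submodule k V) (x : V) : onto S x ∈ S :=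
  (Classical.choose (LinearMap.exists_extend (p := S) (LinearMap.id : S →ₗ[k] S)) x).2

theorem onto_self {V : Type*} [AddCommGroup V] [Module k V] (S : Submodule k V) {x : V} (hx : x ∈ S) : onto S x = x :=
  congrArg Subtype.val (LinearMap.congr_fun
    (Classical.choose_spec (LinearMap.exists_extend (p := S) (LinearMap.id : S →ₗ[k] S))) ⟨x, hx⟩)

theorem onto_idem {V : Type*} [AddCommGroup V] [Module k V] (S : Submodule k V) : onto S * onto S = onto S :=
  LinearMap.ext fun x => onto_self S (onto_mem S x)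

/-- the valuation ring of a place as a subspace -/
def osub (P : FunFld.Place k K) : Submodule k K where
  carrier := {x | P.1 x ≤ 1}
  add_mem' {a b} ha hb := (P.1.map_add a b).trans (max_le ha hb)
  zero_mem' := by simp
  smul_mem' c a ha := by
    show P.1 (c • a) ≤ 1
    rw [Algebra.smul_def, map_mul]
    exact mul_le_one' (P.2.1 c) ha

/-- the chosen projection of `K` onto the valuation ring -/
noncomputable def oproj (P : FunFld.Place k K) : End k K := onto (osub P)

theorem oproj_le (P : FunFld.Place k K) (x : K) : P.1 (oproj P x) ≤ 1 := onto_mem (osub P) x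

theorem oproj_self {P : FunFld.Place k K} {x : K} (h : P.1 x ≤ 1) : oproj P x = x := onto_self (osub P) h

/-- multiplication on `K` -/
noncomputable def mK (k : Type*) {K : Type*} [Field k] [Field K] [Algebra k K] (f : K) : End k K := LinearMap.mulLeft k f

theorem mK_comm (f g : K) : mK k f * mK k g = mK k g * mK k f := LinearMap.ext fun x => mul_left_comm f g x

theorem mK_apply (f x : K) : mK k f x = f * x := rfl

variable {F : Type*} [Field F] [Algebra k F] {P : FunFld.Place k K} {φ : K →ₐ[k] F⸨X⸩}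

theorem low_iff (hφ : IsExpansionAt P.1 φ) (x : K) : (∀ m < (0 : ℤ), (φ x).coeff m = 0) ↔ P.1 x ≤ 1 := by
  rw [← LaurentSeries.valuation_le_iff_coeff_lt_eq_zero (K := F) (D := 0), hφ.1, neg_zero, exp_zero]

/-- the expansion has dense image -/
theorem dense (hφ : IsExpansionAt P.1 φ) (y : F⸨X⸩) (N : ℤ) : ∃ x : K, ∀ m < N, (y - φ x).coeff m = 0 := by
  suffices ∀ n : ℕ, ∃ x : K, ∀ m < y.order + n, (y - φ x).coeff m = 0 by
    obtain ⟨x, hx⟩ := this (N - y.order).toNat
    exact ⟨x, fun m hm => hx m (by omega)⟩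
  intro n
  induction n with
  | zero => exact ⟨0, fun m hm => by rw [map_zero, sub_zero]; exact HahnSeries.coeff_eq_zero_of_lt_order (by simpa using hm)⟩
  | succ n ih =>
    obtain ⟨x, hx⟩ := ih
    set j := y.order + n
    obtain ⟨t, ht⟩ := hφ.2.2
    have hv : Valued.v (φ (t ^ j)) = exp (-j) := by
      rw [hφ.1, map_zpow₀, ht, ← exp_zsmul]; simp
    have hlow : ∀ m < j, (φ (t ^ j)).coeff m = 0 :=
      (LaurentSeries.valuation_le_iff_coeff_lt_eq_zero (K := F) (D := j)).1 hv.le
    have hγ : (φ (t ^ j)).coeff j ≠ 0 := fun h0 => by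
      have h := (LaurentSeries.valuation_le_iff_coeff_lt_eq_zero (K := F) (D := j + 1) (f := φ (t ^ j))).2 fun m hm => by
        rcases eq_or_ne m j with rfl | hne
        · exact h0
        · exact hlow m (by omega)
      rw [hv, exp_le_exp] at h
      omega
    obtain ⟨f, hf, hf0⟩ := hφ.2.1 ((y - φ x).coeff j / (φ (t ^ j)).coeff j)
    refine ⟨x + f * t ^ j, fun m hm => ?_⟩
    have hfl := (low_iff hφ f).2 hf
    have hsplit : φ f = HahnSeries.single 0 ((φ f).coeff 0) + (φ f - HahnSeries.single 0 ((φ f).coeff 0)) := by ring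
    rw [map_add, sub_add_eq_sub_sub, HahnSeries.coeff_sub, map_mul]
    rcases eq_or_ne m j with rfl | hne
    · rw [hsplit, add_mul, HahnSeries.coeff_add, HahnSeries.coeff_single_mul, sub_zero, hf0,
        Laurent.coeff_mul_low (A := 1) (fun i hi => by
          rw [HahnSeries.coeff_sub, HahnSeries.coeff_single]
          rcases eq_or_ne i 0 with rfl | h
          · rw [if_pos rfl, hf0, sub_self]
          · rw [if_neg h, hfl i (by omega), sub_zero]) hlow (show j < 1 + j by omega),
        add_zero, div_mul_cancel₀ _ hγ, sub_self]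
    · rw [hx m (by push_cast at hm; omega), Laurent.coeff_mul_low hfl hlow (show m < 0 + j by push_cast at hm; omega),
        sub_zero]

/-- the expansion as a linear map -/
noncomputable def phiL (φ : K →ₐ[k] F⸨X⸩) : K →ₗ[k] F⸨X⸩ where
  toFun := φ
  map_add' := map_add φ
  map_smul' c x := by
    rw [RingHom.id_apply, Algebra.smul_def, map_mul, LocRes.map_algebraMap, smul_eq]

theorem phiL_injective : Function.Injective (phiL φ) := φ.toRingHom.injective

variable [FiniteDimensional k F]

/-- Tate's residue on `K` at `P` is the local residue -/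
theorem local_res (hφ : IsExpansionAt P.1 φ) (f g : K) :
    Adm (oproj P) (mK k f) ∧ FR (C (oproj P) (mK k f) (mK k g)) ∧
      res (oproj P) (mK k f) (mK k g) = LocRes.locRes φ f g := by
  classical
  let A : Submodule k F⸨X⸩ :=
    { carrier := {y | ∀ m < (0 : ℤ), y.coeff m = 0}
      add_mem' := fun {a b} ha hb m hm => by rw [HahnSeries.coeff_add, ha m hm, hb m hm, add_zero]
      zero_mem' := fun m _ => HahnSeries.coeff_zero
      smul_mem' := fun c a ha m hm => by rw [HahnSeries.coeff_smul, ha m hm, smul_zero] }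
  have hsurj : Function.Surjective (A.mkQ ∘ₗ phiL φ) := fun q => by
    obtain ⟨y, rfl⟩ := Submodule.mkQ_surjective A q
    obtain ⟨x, hx⟩ := dense hφ y 0
    exact ⟨x, ((Submodule.Quotient.eq A).2 (show y - φ x ∈ A from hx)).symm⟩
  obtain ⟨ρ, hρ⟩ := LinearMap.exists_rightInverse_of_surjective _ (LinearMap.range_eq_top.2 hsurj)
  set π := oproj P with hπdef
  set π₂ : End k F⸨X⸩ := 1 - phiL φ ∘ₗ ((1 - π) ∘ₗ (ρ ∘ₗ A.mkQ)) with hπ₂
  have hσ : ∀ y, y - φ (ρ (A.mkQ y)) ∈ A := fun y => (Submodule.Quotient.eq A).1 (LinearMap.congr_fun hρ (A.mkQ y)).symm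
  have hA2 : ∀ y, π₂ y ∈ A := fun y => by
    have e : π₂ y = (y - φ (ρ (A.mkQ y))) + φ (π (ρ (A.mkQ y))) := by
      show y - φ (ρ (A.mkQ y) - π (ρ (A.mkQ y))) = _
      rw [map_sub]; ring
    rw [e]
    exact A.add_mem (hσ y) ((low_iff hφ _).2 (oproj_le P _))
  have hA2id : ∀ y ∈ A, π₂ y = y := fun y hy => by
    show y - φ (ρ (A.mkQ y) - π (ρ (A.mkQ y))) = y
    rw [Submodule.mkQ_apply, (Submodule.Quotient.mk_eq_zero A).2 hy, map_zero, map_zero, sub_zero, map_zero, sub_zero]
  have hcomm : ∀ x, π₂ (phiL φ x) = phiL φ (π x) := fun x => by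
    show φ x - φ (ρ (A.mkQ (φ x)) - π (ρ (A.mkQ (φ x)))) = φ (π x)
    set z := ρ (A.mkQ (φ x))
    have hz : P.1 (x - z) ≤ 1 := (low_iff hφ _).1 (by rw [map_sub]; exact hσ (φ x))
    have h := oproj_self hz
    rw [← hπdef, map_sub] at h
    rw [← map_sub]
    congr 1
    linear_combination -h
  have h1 : proj k F * π₂ = π₂ := LinearMap.ext fun y => proj_eq_self k (hA2 y)
  have h2 : π₂ * proj k F = proj k F := LinearMap.ext fun y => hA2id _ (proj_low k y)
  obtain ⟨haf, hag, hres⟩ := res_range h1 h2 (M_comm k (φ f) (φ g)) (adm k (φ f)) (adm k (φ g))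
  have hM : ∀ u : K, M k (φ u) ∘ₗ phiL φ = phiL φ ∘ₗ mK k u := fun u => LinearMap.ext fun x => (map_mul φ u x).symm
  have hadm : ∀ u : K, Adm π₂ (M k (φ u)) → Adm π (mK k u) := fun u hu => by
    refine FR.of_comp_injective (ι := phiL φ) phiL_injective ?_
    have e : phiL φ ∘ₗ ((1 - π) * mK k u * π) = ((1 - π₂) * M k (φ u) * π₂) ∘ₗ phiL φ := LinearMap.ext fun x => by
      simp only [LinearMap.comp_apply, Module.End.mul_apply, LinearMap.sub_apply, Module.End.one_apply, map_sub,
        ← hcomm]
      rw [show phiL φ (mK k u (π x)) = M k (φ u) (phiL φ (π x)) from (LinearMap.congr_fun (hM u) (π x)).symm, ← hcomm]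
    rw [e]; exact hu.comp_right _
  have hfrK : FR (C π (mK k f) (mK k g)) := FR_C (mK_comm f g) (hadm f haf) (hadm g hag)
  set N := max 0 (max (-(φ f).order) (max (-(φ g).order) (-(φ f).order - (φ g).order)))
  let U : Submodule k F⸨X⸩ :=
    { carrier := {y | ∀ m < N, y.coeff m = 0}
      add_mem' := fun {a b} ha hb m hm => by rw [HahnSeries.coeff_add, ha m hm, hb m hm, add_zero]
      zero_mem' := fun m _ => HahnSeries.coeff_zero
      smul_mem' := fun c a ha m hm => by rw [HahnSeries.coeff_smul, ha m hm, smul_zero] }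
  have hord : ∀ u : K, ∀ m < (φ u).order, (φ u).coeff m = 0 := fun u m hm => HahnSeries.coeff_eq_zero_of_lt_order hm
  have hU : ∀ y ∈ U, y ∈ A ∧ φ f * y ∈ A ∧ φ g * y ∈ A ∧ φ f * (φ g * y) ∈ A := fun y hy =>
    ⟨fun m hm => hy m (by omega), fun m hm => Laurent.coeff_mul_low (hord f) hy (by omega),
      fun m hm => Laurent.coeff_mul_low (hord g) hy (by omega), fun m hm =>
      Laurent.coeff_mul_low (hord f) (B := (φ g).order + N) (fun i hi => Laurent.coeff_mul_low (hord g) hy hi) (by omega)⟩
  obtain ⟨-, heq⟩ := res_transfer (phiL φ) (π := π) (f := mK k f) (g := mK k g) (π₂ := π₂) (f₂ := M k (φ f))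
    (g₂ := M k (φ g)) (LinearMap.ext hcomm) (hM f) (hM g) U
    (fun y hy => C_apply_eq_zero (M_comm k _ _) (hA2id _ (hU y hy).1) (hA2id _ (hU y hy).2.1) (hA2id _ (hU y hy).2.2.1)
      (hA2id _ (hU y hy).2.2.2))
    (fun x hx => by
      have h := hU (φ x) hx
      simp only [← map_mul] at h
      exact C_apply_eq_zero (mK_comm f g) (oproj_self ((low_iff hφ _).1 h.1)) (oproj_self ((low_iff hφ _).1 h.2.1))
        (oproj_self ((low_iff hφ _).1 h.2.2.1)) (oproj_self ((low_iff hφ _).1 h.2.2.2)))
    (fun y => by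
      obtain ⟨x, hx⟩ := dense hφ y N
      exact ⟨x, hx⟩)
    hfrK
  refine ⟨hadm f haf, hfrK, ?_⟩
  rw [← heq, hres]
  exact R_eq_T k (φ f) (φ g)

end Groth.Agent.FunFldLib.Tate
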