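import Groth.Agent.FunFldLib.Tate.Place
import Mathlib.LinearAlgebra.Projection

/-! Pulling residues back along a map with dense image, sublattices, and products. -/

set_option autoImplicit false

namespace Groth.Agent.FunFldLib.Tate

open Module

variable {k V W : Type*} [Field k] [AddCommGroup V] [Module k V] [AddCommGroup W] [Module k W]

/-- pull a residue back along an injective map with dense image -/
theorem res_pullback (ι : V →ₗ[k] W) (hι : Function.Injective ι) {π₁ f g : End k V} {πh f₂ g₂ : End k W}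
    (hπh : πh * πh = πh) (hf : f₂ ∘ₗ ι = ι ∘ₗ f) (hg : g₂ ∘ₗ ι = ι ∘ₗ g) (hc₂ : f₂ * g₂ = g₂ * f₂)
    (haf : Adm πh f₂) (hag : Adm πh g₂) (hrange : ∀ x, πh (ι (π₁ x)) = ι (π₁ x))
    (hrange' : ∀ x, πh (ι x) = ι x → π₁ x = x) (U : Submodule k W)
    (hU : ∀ u ∈ U, πh u = u ∧ πh (f₂ u) = f₂ u ∧ πh (g₂ u) = g₂ u ∧ πh (f₂ (g₂ u)) = f₂ (g₂ u))
    (hdense : ∀ y, ∃ x, y - ι x ∈ U) :
    Adm π₁ f ∧ FR (C π₁ f g) ∧ res π₁ f g = res πh f₂ g₂ := by
  let A : Submodule k W := LinearMap.ker (1 - πh)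
  have hA : ∀ y, y ∈ A ↔ πh y = y := fun y => by
    rw [LinearMap.mem_ker, LinearMap.sub_apply, Module.End.one_apply, sub_eq_zero]; exact eq_comm
  have hsurj : Function.Surjective (A.mkQ ∘ₗ ι) := fun q => by
    obtain ⟨y, rfl⟩ := Submodule.mkQ_surjective A q
    obtain ⟨x, hx⟩ := hdense y
    exact ⟨x, ((Submodule.Quotient.eq A).2 ((hA _).2 (hU _ hx).1)).symm⟩
  obtain ⟨ρ, hρ⟩ := LinearMap.exists_rightInverse_of_surjective _ (LinearMap.range_eq_top.2 hsurj)
  set π₂ : End k W := 1 - ι ∘ₗ ((1 - π₁) ∘ₗ (ρ ∘ₗ A.mkQ)) with hπ₂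
  have hσ : ∀ y, y - ι (ρ (A.mkQ y)) ∈ A := fun y => (Submodule.Quotient.eq A).1 (LinearMap.congr_fun hρ (A.mkQ y)).symm
  have hA2 : ∀ y, π₂ y ∈ A := fun y => by
    have e : π₂ y = (y - ι (ρ (A.mkQ y))) + ι (π₁ (ρ (A.mkQ y))) := by
      show y - ι (ρ (A.mkQ y) - π₁ (ρ (A.mkQ y))) = _
      rw [map_sub]; abel
    rw [e]
    exact A.add_mem (hσ y) ((hA _).2 (hrange _))
  have hA2id : ∀ y ∈ A, π₂ y = y := fun y hy => by
    show y - ι (ρ (A.mkQ y) - π₁ (ρ (A.mkQ y))) = y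
    rw [Submodule.mkQ_apply, (Submodule.Quotient.mk_eq_zero A).2 hy, map_zero, map_zero, sub_zero, map_zero, sub_zero]
  have hcomm : ∀ x, π₂ (ι x) = ι (π₁ x) := fun x => by
    show ι x - ι (ρ (A.mkQ (ι x)) - π₁ (ρ (A.mkQ (ι x)))) = ι (π₁ x)
    set z := ρ (A.mkQ (ι x))
    have hz := hrange' (x - z) ((hA _).1 (by rw [map_sub]; exact hσ (ι x)))
    rw [map_sub π₁] at hz
    rw [← map_sub]
    congr 1
    calc x - (z - π₁ z) = (x - z) + π₁ z := by abel
      _ = π₁ x := by rw [← hz]; abel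
  have h1 : πh * π₂ = π₂ := LinearMap.ext fun y => (hA _).1 (hA2 y)
  have h2 : π₂ * πh = πh := LinearMap.ext fun y => hA2id _ ((hA _).2 (LinearMap.congr_fun hπh y))
  obtain ⟨haf2, hag2, hres⟩ := res_range h1 h2 hc₂ haf hag
  have hfx : ∀ x, f₂ (ι x) = ι (f x) := LinearMap.congr_fun hf
  have hgx : ∀ x, g₂ (ι x) = ι (g x) := LinearMap.congr_fun hg
  have hadm : ∀ (u : End k V) (u₂ : End k W), (∀ x, u₂ (ι x) = ι (u x)) → Adm π₂ u₂ → Adm π₁ u := fun u u₂ hu hadm => by
    refine FR.of_comp_injective (ι := ι) hι ?_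
    have e : ι ∘ₗ ((1 - π₁) * u * π₁) = ((1 - π₂) * u₂ * π₂) ∘ₗ ι := LinearMap.ext fun x => by
      simp only [LinearMap.comp_apply, Module.End.mul_apply, LinearMap.sub_apply, Module.End.one_apply, map_sub,
        hcomm, hu]
    rw [e]; exact hadm.comp_right _
  have hfg : f * g = g * f := LinearMap.ext fun x => hι (by
    show ι (f (g x)) = ι (g (f x))
    rw [← hfx, ← hgx, ← hgx, ← hfx]
    exact LinearMap.congr_fun hc₂ (ι x))
  have haf1 := hadm f f₂ hfx haf2
  have hfr := FR_C hfg haf1 (hadm g g₂ hgx hag2)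
  have hUA : ∀ u ∈ U, u ∈ A ∧ f₂ u ∈ A ∧ g₂ u ∈ A ∧ f₂ (g₂ u) ∈ A := fun u hu =>
    let ⟨a, b, c, d⟩ := hU u hu
    ⟨(hA _).2 a, (hA _).2 b, (hA _).2 c, (hA _).2 d⟩
  obtain ⟨-, heq⟩ := res_transfer ι (π := π₁) (f := f) (g := g) (π₂ := π₂) (f₂ := f₂) (g₂ := g₂)
    (LinearMap.ext hcomm) hf hg U
    (fun u hu => C_apply_eq_zero hc₂ (hA2id _ (hUA u hu).1) (hA2id _ (hUA u hu).2.1) (hA2id _ (hUA u hu).2.2.1)
      (hA2id _ (hUA u hu).2.2.2))
    (fun x hx => by
      obtain ⟨a, b, c, d⟩ := hU _ hx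
      rw [hgx, hfx] at d
      rw [hfx] at b
      rw [hgx] at c
      exact C_apply_eq_zero hfg (hrange' _ a) (hrange' _ b) (hrange' _ c) (hrange' _ d))
    hdense hfr
  exact ⟨haf1, hfr, by rw [← heq, hres]⟩

/-- a sublattice of finite index has the same residue -/
theorem res_sublattice {π π'' f g : End k V} (hπ : π * π = π) (hsub : π * π'' = π'') (hπ'' : π'' * π'' = π'')
    (hfin : FR ((1 - π'') * π)) (hc : f * g = g * f) (hf : Adm π f) (hg : Adm π g) :
    res π'' f g = res π f g := by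
  set π' := π'' * π with hπ'
  set ε := (1 - π'') * π with hε
  have hεπ : π = π' + ε := by rw [hπ', hε]; noncomm_ring
  have hπ'2 : π' * π' = π' := by
    rw [hπ', show π'' * π * (π'' * π) = π'' * (π * π'') * π by noncomm_ring, hsub, hπ'']
  have hππ' : π * π' = π' := by rw [hπ', ← mul_assoc, hsub]
  have hdiff : ∀ h : End k V, FR (π' * h * π' - π * h * π) := fun h => by
    rw [show π' * h * π' - π * h * π = π' * h * π' - (π' + ε) * h * (π' + ε) by rw [← hεπ],
      show π' * h * π' - (π' + ε) * h * (π' + ε) = -(ε * (h * π') + (π' + ε) * h * ε) by noncomm_ring]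
    exact ((hfin.mul_right _).add (hfin.mul_left _)).neg
  have hadm : ∀ h : End k V, Adm π h → Adm π' h := fun h hh => by
    have e : (1 - π') * h * π' = (1 - π) * h * π * π' + ε * h * π' := by
      have e1 : (1 - π) * h * π * π' = (1 - π) * h * π' := by rw [mul_assoc, hππ']
      rw [e1, ← add_mul, ← add_mul]
      congr 2
      rw [hεπ]; abel
    unfold Adm
    rw [e]
    exact (hh.mul_right _).add ((hfin.mul_right h).mul_right _)
  obtain ⟨-, h1⟩ := res_perturb hπ hπ'2 (FR_C hc hf hg) (hdiff f) (hdiff g)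
  have h2 : π' * π'' = π'' := by rw [hπ', mul_assoc, hsub, hπ'']
  have h3 : π'' * π' = π' := by rw [hπ', ← mul_assoc, hπ'']
  rw [(res_range h2 h3 hc (hadm f hf) (hadm g hg)).2.2, h1]

theorem FR.of_ker_le {X : Type*} [AddCommGroup X] [Module k X] [FiniteDimensional k X] {T : V →ₗ[k] W}
    (L : V →ₗ[k] X) (h : LinearMap.ker L ≤ LinearMap.ker T) : FR T := by
  obtain ⟨S, hS⟩ := LinearMap.exists_leftInverse_of_injective _ (Submodule.ker_liftQ_eq_bot' (LinearMap.ker L) L rfl)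
  have e : T = ((LinearMap.ker L).liftQ T h ∘ₗ S) ∘ₗ L := LinearMap.ext fun x => by
    show T x = (LinearMap.ker L).liftQ T h (S (L x))
    rw [show S (L x) = Submodule.Quotient.mk x from LinearMap.congr_fun hS (Submodule.Quotient.mk x)]
    rfl
  rw [e]
  exact (FR.of_le (X := LinearMap.range L) fun x => ⟨x, rfl⟩).comp_left _

/-- the trace of an operator on a finite power -/
theorem trF_pi {ι : Type*} [Fintype ι] [DecidableEq ι] (T : End k (ι → V)) (t : ι → ι → End k V)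
    (hT : ∀ a i, T a i = ∑ j, t i j (a j)) (hfr : ∀ i j, FR (t i j)) : FR T ∧ trF T = ∑ i, trF (t i i) := by
  let e : ι → ι → End k (ι → V) := fun i j => LinearMap.single k (fun _ => V) i ∘ₗ (t i j ∘ₗ LinearMap.proj j)
  have hfre : ∀ i j, FR (e i j) := fun i j => ((hfr i j).comp_right _).comp_left _
  have he : T = ∑ i, ∑ j, e i j := LinearMap.ext fun a => funext fun l => by
    simp only [LinearMap.sum_apply, Finset.sum_apply, e, LinearMap.comp_apply, LinearMap.proj_apply,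
      LinearMap.single_apply]
    rw [hT, Finset.sum_comm]
    exact Finset.sum_congr rfl fun j _ => by
      rw [Finset.sum_eq_single_of_mem l (Finset.mem_univ l) fun i _ hne => Pi.single_eq_of_ne (Ne.symm hne) _,
        Pi.single_eq_same]
  refine ⟨he ▸ FR.sum fun i _ => FR.sum fun j _ => hfre i j, ?_⟩
  rw [he, trF_sum _ _ fun i _ => FR.sum fun j _ => hfre i j]
  refine Finset.sum_congr rfl fun i _ => ?_
  rw [trF_sum _ _ fun j _ => hfre i j, Finset.sum_eq_single_of_mem i (Finset.mem_univ i)]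
  · rw [trF_comp_comm ((hfr i i).comp_right _), LinearMap.comp_assoc,
      show (LinearMap.proj i : (ι → V) →ₗ[k] V) ∘ₗ LinearMap.single k (fun _ => V) i = LinearMap.id from
        LinearMap.ext fun v => by simp, LinearMap.comp_id]
  · intro j _ hne
    rw [trF_comp_comm ((hfr i j).comp_right _), LinearMap.comp_assoc,
      show (LinearMap.proj j : (ι → V) →ₗ[k] V) ∘ₗ LinearMap.single k (fun _ => V) i = 0 from
        LinearMap.ext fun v => by simp [hne], LinearMap.comp_zero, trF_zero]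

end Groth.Agent.FunFldLib.Tate
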